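import Groth.Agent.L24.ClopenIso.Henselian
import Groth.Agent.L25.Char.ModelLocal
import Groth.Agent.L05.Henselization.AtPrime
import Groth.Agent.L05.Henselization.Noeth
import Groth.Agent.L05.Henselization.Strict
import Groth.Agent.L05.Hensel.Perm
import Mathlib.RingTheory.Localization.BaseChange

/-!
# The open and closed isotrivial subgroup over the henselization at a prime
-/

set_option autoImplicit false

universe u

open TensorProduct

namespace Groth.L24.ClopenIso

open Groth.L25.MultType Groth.L25.Char Groth.L05.Henselization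

variable {R : Type u} [CommRing R] (p : Ideal R) [p.IsPrime]

/-- The henselization at a prime is local. -/
theorem isLocalRing_colPrime : IsLocalRing (Col R p.ResidueField) :=
  isLocalRing_col R p.ResidueField

/-- The maximal ideal of the henselization at a prime is the kernel of the map to the residue field. -/
theorem maximalIdeal_colPrime [IsLocalRing (Col R p.ResidueField)] :
    IsLocalRing.maximalIdeal (Col R p.ResidueField) = RingHom.ker (ε R p.ResidueField) :=
  haveI := RingHom.ker_isMaximal_of_surjective _ (ε_surjective_prime p)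
  (IsLocalRing.eq_maximalIdeal inferInstance).symm

/-- Flatness along the fibre passes to the localization at the prime. -/
theorem flat_atPrime {C : Type u} [CommRing C] [Algebra R C]
    (hfl : ∀ (q : Ideal C) [q.IsPrime], q.comap (algebraMap R C) = p →
      Module.Flat R (Localization.AtPrime q))
    (q : Ideal (Localization.AtPrime p ⊗[R] C)) [q.IsPrime]
    (hq : (IsLocalRing.maximalIdeal (Localization.AtPrime p)).map
      (algebraMap (Localization.AtPrime p) (Localization.AtPrime p ⊗[R] C)) ≤ q) :
    Module.Flat (Localization.AtPrime p) (Localization.AtPrime q) := by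
  let Rp := Localization.AtPrime p
  let D := Rp ⊗[R] C
  letI : Algebra C D := Algebra.TensorProduct.rightAlgebra
  haveI : IsScalarTower R C D := IsScalarTower.of_algebraMap_eq fun r => by
    change algebraMap R Rp r ⊗ₜ[R] (1 : C) = (1 : Rp) ⊗ₜ algebraMap R C r
    exact Algebra.TensorProduct.tmul_one_eq_one_tmul r
  haveI hloc : IsLocalization (Algebra.algebraMapSubmonoid C p.primeCompl) D :=
    isLocalizedModule_iff_isLocalization.1
      (inferInstance : IsLocalizedModule p.primeCompl
        (IsScalarTower.toAlgHom R C D : C →ₗ[R] D))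
  let q0 := q.comap (algebraMap C D)
  haveI : IsLocalization.AtPrime (Localization.AtPrime q) q0 :=
    IsLocalization.isLocalization_isLocalization_atPrime_isLocalization
      (Algebra.algebraMapSubmonoid C p.primeCompl) (Localization.AtPrime q) q
  haveI : IsScalarTower R C (Localization.AtPrime q) := IsScalarTower.of_algebraMap_eq fun r => by
    rw [IsScalarTower.algebraMap_apply C D (Localization.AtPrime q),
      ← IsScalarTower.algebraMap_apply R C D, ← IsScalarTower.algebraMap_apply]
  have hq0 : q0.comap (algebraMap R C) = p := by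
    have hmax : q.comap (algebraMap Rp D) = IsLocalRing.maximalIdeal Rp :=
      ((IsLocalRing.maximalIdeal.isMaximal Rp).eq_of_le (Ideal.IsPrime.comap _).ne_top
        (Ideal.map_le_iff_le_comap.1 hq)).symm
    calc q0.comap (algebraMap R C) = q.comap (algebraMap R D) := by
          rw [Ideal.comap_comap, ← IsScalarTower.algebraMap_eq]
      _ = (q.comap (algebraMap Rp D)).comap (algebraMap R Rp) := by
          rw [Ideal.comap_comap, ← IsScalarTower.algebraMap_eq]
      _ = p := by rw [hmax]; exact Localization.AtPrime.comap_maximalIdeal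
  haveI := hfl q0 hq0
  let e : Localization.AtPrime q0 ≃ₐ[C] Localization.AtPrime q :=
    IsLocalization.algEquiv q0.primeCompl _ _
  haveI : Module.Flat R (Localization.AtPrime q) :=
    Module.Flat.of_linearEquiv (e.restrictScalars R).toLinearEquiv.symm
  exact (Module.flat_iff_of_isLocalization (R := R) Rp p.primeCompl
    (M := Localization.AtPrime q)).mpr inferInstance

set_option maxHeartbeats 1000000 in
/-- The open and closed isotrivial subgroup over the henselization at a prime. -/
theorem exists_clopen_col [IsLocalRing (Col R p.ResidueField)] (C : Type u) [CommRing C]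
    [HopfAlgebra R C] (hfp : Algebra.FinitePresentation R C)
    (hfl : ∀ (q : Ideal C) [q.IsPrime], q.comap (algebraMap R C) = p →
      Module.Flat R (Localization.AtPrime q))
    (hs : SGA3b.IsMultType p.ResidueField (p.ResidueField ⊗[R] C)) :
    ∃ (B : Type u) (_ : CommRing B) (_ : HopfAlgebra (Col R p.ResidueField) B)
      (φ : Col R p.ResidueField ⊗[R] C →ₐc[Col R p.ResidueField] B)
      (e : Col R p.ResidueField ⊗[R] C),
      SGA3b.IsIsotrivial (Col R p.ResidueField) B ∧ Function.Surjective φ ∧ IsIdempotentElem e ∧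
      RingHom.ker (φ : Col R p.ResidueField ⊗[R] C →ₐ[Col R p.ResidueField] B) = Ideal.span {e} ∧
      Algebra.TensorProduct.map (ε R p.ResidueField) (AlgHom.id R C) e = 0 := by
  classical
  haveI := hfp
  let Rp := Localization.AtPrime p
  let Rh := Col R p.ResidueField
  have hmax := maximalIdeal_colPrime p
  -- the henselization is an algebra over the localization
  have hu : ∀ s : p.primeCompl, IsUnit (algebraMap R Rh s.1) := fun s =>
    isUnit_of_isUnit_ε (by
      rw [AlgHom.commutes]
      exact isUnit_iff_ne_zero.mpr fun h0 => s.2 (Ideal.algebraMap_residueField_eq_zero.mp h0))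
  letI : Algebra Rp Rh := (IsLocalization.lift (M := p.primeCompl) hu).toAlgebra
  haveI : IsScalarTower R Rp Rh :=
    IsScalarTower.of_algebraMap_eq fun r => (IsLocalization.lift_eq (M := p.primeCompl) hu r).symm
  haveI : IsLocalHom (algebraMap Rp Rh) :=
    ((IsLocalRing.local_hom_TFAE _).out 0 2 rfl rfl).mpr (by
      rw [← Localization.AtPrime.map_eq_maximalIdeal, Ideal.map_map,
        ← IsScalarTower.algebraMap_eq, hmax, ker_ε_prime])
  -- the group over the localization and its model
  have hsp : SGA3b.IsMultType (IsLocalRing.ResidueField Rp)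
      (IsLocalRing.ResidueField Rp ⊗[Rp] (Rp ⊗[R] C)) :=
    isMultType_of_bialgEquiv (cancelBialg R Rp (IsLocalRing.ResidueField Rp) C).symm hs
  obtain ⟨R₀, _, _, _, _, _, C₀, _, _, hfp₀, hfl₀, ⟨e₀⟩⟩ :=
    Model.exists_local_model (R := Rp) (Rp ⊗[R] C) inferInstance fun q _ hq => flat_atPrime p hfl q hq
  haveI := hfp₀
  -- the henselization of the model
  let K₀ := IsLocalRing.ResidueField R₀
  let A := Col R₀ K₀
  haveI : IsLocalRing A := isLocalRing_col R₀ K₀
  haveI : IsNoetherianRing A := isNoetherianRing_col R₀ K₀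
  have hmaxA : IsLocalRing.maximalIdeal A = RingHom.ker (ε R₀ K₀) :=
    haveI := RingHom.ker_isMaximal_of_surjective _ (ε_surjective_of_separable R₀ K₀)
    (IsLocalRing.eq_maximalIdeal inferInstance).symm
  haveI : HenselianRing A (IsLocalRing.maximalIdeal A) := by
    rw [hmaxA]; exact henselianRing_ker_ε (ε_surjective_of_separable R₀ K₀)
  haveI : HenselianLocalRing A := Groth.L05.henselianLocalRing_of_henselianRing
  letI : Algebra R₀ Rh := ((algebraMap Rp Rh).comp (algebraMap R₀ Rp)).toAlgebra
  haveI : IsScalarTower R₀ Rp Rh := IsScalarTower.of_algebraMap_eq fun _ => rfl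
  let J := RingHom.ker (ε R p.ResidueField)
  haveI : HenselianRing Rh J := henselianRing_ker_ε (ε_surjective_prime p)
  let τ : K₀ →ₐ[R₀] Rh ⧸ J :=
    Ideal.Quotient.liftₐ (IsLocalRing.maximalIdeal R₀) (Algebra.ofId R₀ (Rh ⧸ J)) fun r hr => by
      change Ideal.Quotient.mk J (algebraMap Rp Rh (algebraMap R₀ Rp r)) = 0
      refine Ideal.Quotient.eq_zero_iff_mem.2 ?_
      rw [show J = IsLocalRing.maximalIdeal Rh from hmax.symm]
      exact map_nonunit (algebraMap Rp Rh) _ (map_nonunit (algebraMap R₀ Rp) r hr)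
  obtain ⟨g, hg, -⟩ := existsUnique_algHom (K := K₀) J τ
  letI : Algebra A Rh := g.toRingHom.toAlgebra
  haveI : IsScalarTower R₀ A Rh := IsScalarTower.of_algebraMap_eq fun r => (g.commutes r).symm
  have hm : (IsLocalRing.maximalIdeal A).map (algebraMap A Rh) ≤ IsLocalRing.maximalIdeal Rh := by
    refine Ideal.map_le_iff_le_comap.2 fun a ha => ?_
    rw [hmaxA, RingHom.mem_ker] at ha
    rw [Ideal.mem_comap, hmax]
    refine Ideal.Quotient.eq_zero_iff_mem.1 ?_
    exact (DFunLike.congr_fun hg a).trans ((congrArg τ ha).trans (map_zero τ))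
  have hm₀ : (IsLocalRing.maximalIdeal R₀).map (algebraMap R₀ A) ≤ IsLocalRing.maximalIdeal A :=
    (maximalIdeal_col R₀ K₀).ge
  let ε₁ : Rh ⊗[A] (A ⊗[R₀] C₀) ≃ₐc[Rh] Rh ⊗[Rp] (Rp ⊗[R] C) := modelEquiv e₀
  let ε' : Rh ⊗[A] (A ⊗[R₀] C₀) ≃ₐc[Rh] Rh ⊗[R] C := ε₁.trans (cancelBialg R Rp Rh C)
  have h0 := isIsotrivial_fibre (Rh := A) (S := Rh) (IsLocalRing.maximalIdeal A) hm
    (Ch := A ⊗[R₀] C₀) ε₁ (isMultType_fibre (R := Rp) (S := Rh) hsp)
  obtain ⟨B₀, _, _, φ₀, f₀, hB₀, hφ₀, hf₀, hker₀, hmem₀⟩ :=
    exists_clopen_henselian (A := A) (C := A ⊗[R₀] C₀)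
      (fun q _ hq => flat_baseChange_nhd (IsLocalRing.maximalIdeal R₀) _ hm₀ hfl₀ q hq)
      (isMultType_of_isIsotrivial h0)
  obtain ⟨B, _, _, φ, e, h1, h2, h3, h4, h5⟩ :=
    exists_clopen_baseChange φ₀ hφ₀ f₀ hf₀ hker₀ _ J (hm.trans hmax.le) hmem₀ hB₀ ε'
  refine ⟨B, inferInstance, inferInstance, φ, e, h1, h2, h3, h4, ?_⟩
  have hle : J.map (algebraMap Rh (Rh ⊗[R] C)) ≤
      RingHom.ker (Algebra.TensorProduct.map (ε R p.ResidueField) (AlgHom.id R C)) :=
    Ideal.map_le_iff_le_comap.2 fun x hx => by
      rw [Ideal.mem_comap, RingHom.mem_ker]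
      change Algebra.TensorProduct.map (ε R p.ResidueField) (AlgHom.id R C) (x ⊗ₜ[R] (1 : C)) = 0
      rw [Algebra.TensorProduct.map_tmul, show ε R p.ResidueField x = 0 from hx, zero_tmul]
  exact hle h5

end Groth.L24.ClopenIso
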