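import Groth.Agent.L25.Char.CompletionHom
import Groth.Agent.L25.Char.LocalSplit

/-!
# The open and closed isotrivial subgroup over a Noetherian henselian base

An affine group of finite type over a Noetherian henselian local ring, flat along the closed fibre
and with closed fibre of multiplicative type, has an open and closed isotrivial subgroup of
multiplicative type with the same closed fibre.
-/

set_option autoImplicit false

universe u

open TensorProduct

namespace Groth.L24.ClopenIso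

open Groth.L25.MultType Groth.L25.Char

variable {A : Type u} [CommRing A] [IsNoetherianRing A] [HenselianLocalRing A]
  {C : Type u} [CommRing C] [HopfAlgebra A C] [Algebra.FiniteType A C]

local notation "𝔪" => IsLocalRing.maximalIdeal A

/-- A lift of a group of finite type is of finite type. -/
theorem finiteType_of_lift {B : Type u} [CommRing B] [HopfAlgebra A B]
    (hB : SGA3b.IsIsotrivial A B)
    (h : Algebra.FiniteType (A ⧸ 𝔪) ((A ⧸ 𝔪) ⊗[A] B)) : Algebra.FiniteType A B := by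
  haveI := h
  obtain ⟨T, _, _, _, hfin, hff, M, _, ⟨e⟩⟩ := hB
  haveI := hff
  haveI : Nontrivial T := (FaithfulSMul.algebraMap_injective A T).nontrivial
  obtain ⟨w, hw⟩ := Ideal.exists_maximal T
  haveI := hfin
  haveI := hw
  have hwA : w.comap (algebraMap A T) = 𝔪 :=
    IsLocalRing.eq_maximalIdeal (Ideal.isMaximal_comap_of_isIntegral_of_isMaximal w)
  let K := T ⧸ w
  letI : Algebra (A ⧸ 𝔪) K :=
    (Ideal.Quotient.lift 𝔪 ((Ideal.Quotient.mk w).comp (algebraMap A T)) fun a ha => by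
      rw [← hwA] at ha
      exact Ideal.Quotient.eq_zero_iff_mem.2 ha).toAlgebra
  haveI : IsScalarTower A (A ⧸ 𝔪) K := IsScalarTower.of_algebraMap_eq fun a => rfl
  haveI : Nontrivial K := Ideal.Quotient.nontrivial_iff.2 hw.ne_top
  haveI : Algebra.FiniteType K (K ⊗[A] B) :=
    Algebra.FiniteType.equiv (A := K ⊗[A ⧸ 𝔪] ((A ⧸ 𝔪) ⊗[A] B)) inferInstance
      (cancelBialg A (A ⧸ 𝔪) K B).toAlgEquiv
  haveI : Algebra.FiniteType K (MonoidAlgebra K M) :=
    Algebra.FiniteType.equiv (A := K ⊗[A] B) inferInstance (splitEquiv e K).symm.toAlgEquiv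
  haveI : Monoid.FG M := MonoidAlgebra.finiteType_iff_fg.1 (inferInstance : Algebra.FiniteType K _)
  haveI : Algebra.FiniteType T (MonoidAlgebra T M) := inferInstance
  haveI : Algebra.FiniteType T (T ⊗[A] B) :=
    Algebra.FiniteType.equiv (A := MonoidAlgebra T M) inferInstance e.symm.toAlgEquiv
  exact Algebra.FiniteType.of_finiteType_tensorProduct_of_faithfullyFlat T

set_option maxHeartbeats 800000 in
/-- A homomorphism to an isotrivial group which is surjective and bijective on the closed fibre has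
kernel generated by an idempotent. -/
theorem exists_idem_ker {B : Type u} [CommRing B] [HopfAlgebra A B] (hB : SGA3b.IsIsotrivial A B)
    (φ : C →ₐc[A] B) (hsurj : Function.Surjective φ)
    (hJI : ∀ c : C, φ c = 0 → (1 : A ⧸ 𝔪) ⊗ₜ[A] c = 0) :
    ∃ e : C, IsIdempotentElem e ∧ RingHom.ker (φ : C →ₐ[A] B) = Ideal.span {e} ∧
      e ∈ (𝔪).map (algebraMap A C) := by
  haveI : IsNoetherianRing C := Algebra.FiniteType.isNoetherianRing A C
  let J := RingHom.ker (φ : C →ₐ[A] B)
  haveI : J.IsHopfIdeal A := isHopfIdeal_ker φ hsurj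
  haveI : Module.Projective A B := projective_of_isMultType (isMultType_of_isIsotrivial hB)
  let qe : (C ⧸ J) ≃ₐ[A] B := Ideal.quotientKerAlgEquivOfSurjective hsurj
  haveI : Module.Flat A (C ⧸ J) := Module.Flat.of_linearEquiv qe.toLinearEquiv
  have hJm : ∀ c ∈ J, c ∈ (𝔪).map (algebraMap A C) := fun c hc =>
    (Descent.red_eq_zero_iff 𝔪 c).1 (hJI c hc)
  have hIJ : J ≤ (𝔪).map (algebraMap A C) * J := by
    intro c hc
    have h1 : c ∈ 𝔪 • LinearMap.ker (φ : C →ₐ[A] B).toLinearMap := by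
      refine mem_smul_ker_of_flat (φ : C →ₐ[A] B).toLinearMap hsurj hc ?_
      exact (Descent.red_eq_zero_iff 𝔪 c).2 (hJm c hc)
    refine Submodule.smul_induction_on h1 (fun r hr x hx => ?_) (fun x y hx hy => add_mem hx hy)
    rw [Algebra.smul_def]
    exact Ideal.mul_mem_mul (Ideal.mem_map_of_mem _ hr) hx
  obtain ⟨r, hr1, hr0⟩ := Submodule.exists_sub_one_mem_and_smul_eq_zero_of_fg_of_le_smul
    ((𝔪).map (algebraMap A C)) J (IsNoetherian.noetherian J) (by rwa [Ideal.smul_eq_mul])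
  have hmul : J ≤ RingHom.ker (Bialgebra.counitAlgHom A C) * J := by
    intro j hj
    let u := Coalgebra.counit (R := A) r
    have hu : IsUnit u := by
      have h1 : Bialgebra.counitAlgHom A C (r - 1) ∈ 𝔪 := by
        have h2 : (𝔪).map (algebraMap A C) ≤ (𝔪).comap (Bialgebra.counitAlgHom A C) :=
          Ideal.map_le_iff_le_comap.2 fun x hx => by simpa using hx
        exact h2 hr1
      rw [map_sub, map_one] at h1
      refine of_not_not fun hnu => ?_
      have h3 : u ∈ 𝔪 := hnu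
      exact (IsLocalRing.maximalIdeal.isMaximal A).ne_top ((Ideal.eq_top_iff_one _).2
        (by simpa [u] using sub_mem h3 h1))
    have hk : algebraMap A C u - r ∈ RingHom.ker (Bialgebra.counitAlgHom A C) := by
      rw [RingHom.mem_ker, map_sub, AlgHom.commutes]
      simp [u]
    have h4 : j = algebraMap A C (hu.unit⁻¹ : Aˣ) * ((algebraMap A C u - r) * j) := by
      rw [sub_mul, ← smul_eq_mul r j, hr0 j hj, sub_zero, ← mul_assoc, ← map_mul]
      rw [IsUnit.val_inv_mul, map_one, one_mul]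
    rw [h4]
    exact Ideal.mul_mem_left _ _ (Ideal.mul_mem_mul hk hj)
  have hsq : J ≤ J ^ 2 := le_sq_of_le_ker_mul J hmul
  obtain ⟨e, he, hJe⟩ := (Ideal.isIdempotentElem_iff_of_fg J (IsNoetherian.noetherian J)).1
    (le_antisymm Ideal.mul_le_right (by rwa [pow_two] at hsq))
  exact ⟨e, he, hJe, hJm e (by rw [hJe]; exact Ideal.subset_span rfl)⟩

set_option maxHeartbeats 800000 in
/-- The open and closed isotrivial subgroup. -/
theorem exists_clopen_henselian
    (hfl : ∀ (q : Ideal C) [q.IsPrime], Ideal.map (algebraMap A C) 𝔪 ≤ q →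
      Module.Flat A (Localization.AtPrime q))
    (hs : SGA3b.IsMultType (A ⧸ 𝔪) ((A ⧸ 𝔪) ⊗[A] C)) :
    ∃ (B : Type u) (_ : CommRing B) (_ : HopfAlgebra A B) (φ : C →ₐc[A] B) (e : C),
      SGA3b.IsIsotrivial A B ∧ Function.Surjective φ ∧ IsIdempotentElem e ∧
      RingHom.ker (φ : C →ₐ[A] B) = Ideal.span {e} ∧ e ∈ (𝔪).map (algebraMap A C) := by
  classical
  let k := A ⧸ 𝔪
  letI : Field k := Ideal.Quotient.field _
  have h0 : SGA3b.IsIsotrivial k (k ⊗[A] C) := isIsotrivial_of_field hs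
  obtain ⟨B, _, _, hB, ⟨θ⟩⟩ := Descent.exists_isotrivial_lift 𝔪 h0
  haveI : Algebra.FiniteType A B := finiteType_of_lift hB
    (Algebra.FiniteType.equiv (A := k ⊗[A] C) inferInstance θ.symm.toAlgEquiv)
  -- the completion
  have hm : (𝔪).FG := IsNoetherian.noetherian _
  let Ah := AdicCompletion 𝔪 A
  let I := (𝔪).map (algebraMap A Ah)
  haveI : IsNoetherianRing Ah := Groth.L01.AdicNoeth.isNoetherianRing_adicCompletion 𝔪 hm
  haveI : IsAdicComplete I Ah := AdicCompletion.isAdicComplete_self 𝔪 hm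
  haveI : I.IsMaximal := AdicCompletion.isMaximal_map_of_le _ _ le_rfl hm
  haveI : Algebra.FinitePresentation A C := Algebra.FinitePresentation.of_finiteType.1 ‹_›
  haveI : Module.FaithfullyFlat A Ah := CompletionHom.faithfullyFlat_completion
  let K := Ah ⧸ I
  haveI : Nontrivial K := Ideal.Quotient.nontrivial_iff.2 (Ideal.IsMaximal.ne_top ‹_›)
  letI : Algebra k K := (Ideal.Quotient.lift 𝔪 (algebraMap A K) fun a ha =>
    Ideal.Quotient.eq_zero_iff_mem.2 (Ideal.mem_map_of_mem _ ha)).toAlgebra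
  haveI : IsScalarTower A k K := IsScalarTower.of_algebraMap_eq fun a => rfl
  have hflh : ∀ (q : Ideal (Ah ⊗[A] C)) [q.IsPrime], I.map (algebraMap Ah (Ah ⊗[A] C)) ≤ q →
      Module.Flat Ah (Localization.AtPrime q) :=
    fun q _ hq => flat_baseChange_nhd 𝔪 I le_rfl hfl q hq
  let εC : K ⊗[Ah] (Ah ⊗[A] C) ≃ₐc[K] K ⊗[k] (k ⊗[A] C) :=
    (cancelBialg A Ah K C).trans (cancelBialg A k K C).symm
  let εB : K ⊗[Ah] (Ah ⊗[A] B) ≃ₐc[K] K ⊗[k] (k ⊗[A] B) :=
    (cancelBialg A Ah K B).trans (cancelBialg A k K B).symm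
  have h0K : SGA3b.IsQuasiIsotrivial K (K ⊗[Ah] (Ah ⊗[A] C)) :=
    isQuasiIsotrivial_of_isIsotrivial (isIsotrivial_of_bialgEquiv εC.symm (isIsotrivial_baseChange h0))
  obtain ⟨φ₀⟩ : Nonempty (K ⊗[Ah] (Ah ⊗[A] C) ≃ₐc[K] K ⊗[Ah] (Ah ⊗[A] B)) :=
    ⟨εC.trans ((baseChangeEquiv k K θ.symm).trans εB.symm)⟩
  obtain ⟨φh, hφh⟩ := (reduction_bijective (isIsotrivial_baseChange (S := Ah) hB) hflh h0K).2
    (φ₀ : K ⊗[Ah] (Ah ⊗[A] C) →ₐc[K] K ⊗[Ah] (Ah ⊗[A] B))
  have hsurjh : Function.Surjective φh := by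
    refine surjective_of_reduction (I := I) (isIsotrivial_baseChange (S := Ah) hB) φh fun a => ?_
    obtain ⟨z, hz⟩ := φ₀.surjective ((1 : K) ⊗ₜ a)
    obtain ⟨c, rfl⟩ : ∃ c, (1 : K) ⊗ₜ[Ah] c = z := Descent.red_surjective I (Ah ⊗[A] C) z
    refine ⟨c, ?_⟩
    rw [← hz, ← hφh c]
    rfl
  obtain ⟨φ, hφ⟩ := (CompletionHom.bijective_completion (isMultType_of_isIsotrivial hB) hfl hs).2 φh
  have hsurj : Function.Surjective φ := by
    refine (Module.FaithfullyFlat.lTensor_surjective_iff_surjective A Ah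
      (φ : C →ₐ[A] B).toLinearMap).1 fun y => ?_
    obtain ⟨z, rfl⟩ := hsurjh y
    refine ⟨z, ?_⟩
    induction z using TensorProduct.induction_on with
    | zero => simp
    | add a b ha hb => rw [map_add, ha, hb, map_add]
    | tmul a c =>
      rw [show a ⊗ₜ[A] c = a • ((1 : Ah) ⊗ₜ[A] c) by rw [TensorProduct.smul_tmul', smul_eq_mul, mul_one],
        map_smul φh, hφ]
      simp [TensorProduct.smul_tmul']
  have hinj : Function.Injective (TensorProduct.mk k K (k ⊗[A] C) 1) := by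
    haveI : Module.FaithfullyFlat k K := inferInstance
    exact Module.FaithfullyFlat.tensorProduct_mk_injective _
  have hJI : ∀ c : C, φ c = 0 → (1 : k) ⊗ₜ[A] c = 0 := fun c hc => by
    refine hinj ?_
    have h1 := hφh ((1 : Ah) ⊗ₜ c)
    rw [hφ, hc, TensorProduct.tmul_zero, TensorProduct.tmul_zero] at h1
    have h2 : (1 : K) ⊗ₜ[Ah] ((1 : Ah) ⊗ₜ[A] c) = 0 := φ₀.injective (h1.trans (map_zero φ₀).symm)
    have h3 := congrArg εC h2
    rw [map_zero] at h3
    rw [map_zero]
    refine Eq.trans ?_ h3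
    change _ = (cancelBialg A k K C).toAlgEquiv.symm
      (Algebra.TensorProduct.cancelBaseChange A Ah K K C ((1 : K) ⊗ₜ ((1 : Ah) ⊗ₜ c)))
    rw [Algebra.TensorProduct.cancelBaseChange_tmul, one_smul]
    apply (cancelBialg A k K C).toAlgEquiv.injective
    rw [AlgEquiv.apply_symm_apply]
    change Algebra.TensorProduct.cancelBaseChange A k K K C ((1 : K) ⊗ₜ ((1 : k) ⊗ₜ c)) = _
    rw [Algebra.TensorProduct.cancelBaseChange_tmul, one_smul]
  obtain ⟨e, he, hker, hmem⟩ := exists_idem_ker hB φ hsurj hJI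
  exact ⟨B, inferInstance, inferInstance, φ, e, hB, hsurj, he, hker, hmem⟩

end Groth.L24.ClopenIso
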