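import Groth.Agent.L25.Char.BaseChange
import Groth.Agent.L25.Char.Spread
import Mathlib.RingTheory.HopfAlgebra.Quotient
import Mathlib.RingTheory.HopfAlgebra.TensorProduct
import Mathlib.RingTheory.Bialgebra.Quotient
import Groth.Agent.L25.Char.AdicClopen

/-!
# An idempotent cutting out a subgroup over a flat local algebra does so over a neighbourhood

Let `e` be an element of a Hopf algebra `D` over `V` and `S` a flat local `V`-algebra such that the
image of `e` in `S ⊗ D` is an idempotent generating the kernel of a homomorphism of Hopf algebras.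
After inverting an element of `V` which is a unit in `S`, `e` is an idempotent generating a Hopf
ideal.
-/

set_option autoImplicit false

set_option backward.isDefEq.respectTransparency.types false

universe u

open TensorProduct

namespace Groth.L24.ClopenIso

open Groth.L25.MultType Groth.L25.Char

theorem commute_all {X : Type u} [inst : CommRing X] (a b : X) :
    @Commute X (inst.toMul) a b := mul_comm a b

/-- An element killed by a unit of the base is zero after base change. -/
theorem map_eq_zero_of_smul {V L M N : Type u} [CommRing V] [CommRing L] [Algebra V L]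
    [AddCommGroup M] [Module V M] [AddCommGroup N] [Module V N] [Module L N] [IsScalarTower V L N]
    (m : M →ₗ[V] N) {h : V} (hu : IsUnit (algebraMap V L h)) {z : M} (hz : h • z = 0) : m z = 0 := by
  have h1 := congrArg m hz
  rw [map_smul, map_zero, ← IsScalarTower.algebraMap_smul L h (m z)] at h1
  exact hu.smul_eq_zero.1 h1

variable {V : Type u} [CommRing V] {D : Type u} [CommRing D] [HopfAlgebra V D]
  {S : Type u} [CommRing S] [Algebra V S]

theorem comul_one_tmul (x : D) :
    toFlat V D S (Coalgebra.comul (R := S) ((1 : S) ⊗ₜ[V] x)) =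
      (1 : S) ⊗ₜ[V] Coalgebra.comul (R := V) x := by
  rw [toFlat_comul]
  rfl

theorem counit_one_tmul (x : D) :
    Coalgebra.counit (R := S) ((1 : S) ⊗ₜ[V] x) = algebraMap V S (Coalgebra.counit (R := V) x) := by
  rw [TensorProduct.counit_tmul, CommSemiring.counit_apply, Algebra.smul_def, mul_one]

theorem antipode_one_tmul (x : D) :
    HopfAlgebra.antipode S ((1 : S) ⊗ₜ[V] x) = (1 : S) ⊗ₜ[V] HopfAlgebra.antipode V x := by
  rw [TensorProduct.antipode_def, AlgebraTensorModule.map_tmul, HopfAlgebra.antipode_one]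

/-- The three conditions for `span {e}` to be a Hopf ideal. -/
theorem isHopfIdeal_span (e : D) (h1 : Coalgebra.counit (R := V) e = 0)
    (h2 : Algebra.TensorProduct.map (Ideal.Quotient.mkₐ V (Ideal.span {e}))
      (Ideal.Quotient.mkₐ V (Ideal.span {e})) (Coalgebra.comul (R := V) e) = 0)
    (h3 : Ideal.Quotient.mk (Ideal.span {e}) (HopfAlgebra.antipode V e) = 0) :
    (Ideal.span {e}).IsHopfIdeal V := by
  refine { toIsCoideal := ⟨fun x hx => ?_, fun x hx => ?_⟩, antipode_mem := fun x hx => ?_ }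
  · obtain ⟨a, rfl⟩ := Ideal.mem_span_singleton'.1 hx
    rw [Bialgebra.counit_mul, h1, mul_zero]
  · obtain ⟨a, rfl⟩ := Ideal.mem_span_singleton'.1 hx
    change Algebra.TensorProduct.map (Ideal.Quotient.mkₐ V (Ideal.span {e}))
      (Ideal.Quotient.mkₐ V (Ideal.span {e})) (Coalgebra.comul (R := V) (a * e)) = 0
    rw [Bialgebra.comul_mul, map_mul, h2, mul_zero]
  · obtain ⟨a, rfl⟩ := Ideal.mem_span_singleton'.1 hx
    rw [← HopfAlgebra.antipodeAlgHom_apply, map_mul]
    exact Ideal.mul_mem_left _ _ (Ideal.Quotient.eq_zero_iff_mem.1 h3)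

set_option maxHeartbeats 1000000 in
/-- The image of the idempotent generates a Hopf ideal over a neighbourhood. -/
theorem exists_hopf_span [IsLocalRing S] [Module.Flat V S] (e : D) {B : Type u} [CommRing B]
    [HopfAlgebra S B] (ψ : S ⊗[V] D →ₐc[S] B) (hψ : Function.Surjective ψ)
    (he : IsIdempotentElem ((1 : S) ⊗ₜ[V] e))
    (hker : RingHom.ker (ψ : S ⊗[V] D →ₐ[S] B) = Ideal.span {(1 : S) ⊗ₜ[V] e}) :
    ∃ h : V, IsUnit (algebraMap V S h) ∧ ∀ (L : Type u) [CommRing L] [Algebra V L],
      IsUnit (algebraMap V L h) → IsIdempotentElem ((1 : L) ⊗ₜ[V] e) ∧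
        (Ideal.span {(1 : L) ⊗ₜ[V] e}).IsHopfIdeal L := by
  classical
  let I : Ideal D := Ideal.span {e}
  let mk := Ideal.Quotient.mkₐ V I
  let Pm := Algebra.TensorProduct.map mk mk
  let z2 : V := Coalgebra.counit (R := V) e
  let z3 : (D ⧸ I) ⊗[V] (D ⧸ I) := Pm (Coalgebra.comul (R := V) e)
  let z4 : D ⧸ I := mk (HopfAlgebra.antipode V e)
  -- the quotient map factors through `ψ`
  let q : S ⊗[V] D →ₐ[S] S ⊗[V] (D ⧸ I) := Algebra.TensorProduct.map (AlgHom.id S S) mk
  have hle : RingHom.ker (ψ : S ⊗[V] D →ₐ[S] B) ≤ RingHom.ker q := by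
    rw [hker, Ideal.span_singleton_le_iff_mem, RingHom.mem_ker]
    change (1 : S) ⊗ₜ[V] mk e = 0
    rw [show mk e = 0 from Ideal.Quotient.eq_zero_iff_mem.2 (Ideal.mem_span_singleton_self e),
      TensorProduct.tmul_zero]
  let ρ : B →ₐ[S] S ⊗[V] (D ⧸ I) := AlgHom.liftOfSurjective (ψ : S ⊗[V] D →ₐ[S] B) hψ q hle
  have hρ : ∀ x, ρ (ψ x) = q x := fun x => AlgHom.liftOfSurjective_apply _ _ _ _ _
  have hψe : ψ ((1 : S) ⊗ₜ[V] e) = 0 := by
    have : (1 : S) ⊗ₜ[V] e ∈ RingHom.ker (ψ : S ⊗[V] D →ₐ[S] B) := by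
      rw [hker]; exact Ideal.mem_span_singleton_self _
    exact this
  have v1 : (1 : S) ⊗ₜ[V] (e * e - e) = 0 := by
    rw [TensorProduct.tmul_sub, ← one_mul (1 : S), ← Algebra.TensorProduct.tmul_mul_tmul, one_mul,
      he.eq, sub_self]
  have v2 : (1 : S) ⊗ₜ[V] z2 = 0 := by
    refine (TensorProduct.rid V S).injective ?_
    rw [map_zero, TensorProduct.rid_tmul, Algebra.smul_def, mul_one, ← counit_one_tmul,
      ← CoalgHomClass.counit_comp_apply ψ, hψe, map_zero]
  have v3 : (1 : S) ⊗ₜ[V] z3 = 0 := by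
    have hnat : ∀ w, Algebra.TensorProduct.map (AlgHom.id S S) Pm (toFlat V D S w) =
        Algebra.TensorProduct.lift
          ((Algebra.TensorProduct.map (AlgHom.id S S)
            (Algebra.TensorProduct.includeLeft : (D ⧸ I) →ₐ[V] _)).comp ρ)
          ((Algebra.TensorProduct.map (AlgHom.id S S)
            (Algebra.TensorProduct.includeRight : (D ⧸ I) →ₐ[V] _)).comp ρ)
          (fun a b => commute_all (X := S ⊗[V] ((D ⧸ I) ⊗[V] (D ⧸ I))) _ _)
          (Algebra.TensorProduct.map (ψ : S ⊗[V] D →ₐ[S] B) (ψ : S ⊗[V] D →ₐ[S] B) w) := by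
      intro w
      induction w using TensorProduct.induction_on with
      | zero => simp
      | add a b ha hb => simp only [map_add, ha, hb]
      | tmul x y =>
        rw [toFlat_tmul, map_mul, Algebra.TensorProduct.map_tmul,
          Algebra.TensorProduct.lift_tmul]
        simp only [AlgHom.comp_apply, BialgHom.coe_toAlgHom, hρ]
        congr 1
        · induction x using TensorProduct.induction_on with
          | zero => simp
          | add a b ha hb => simp only [map_add, ha, hb]
          | tmul s d => simp [inl, q, Pm, mk]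
        · induction y using TensorProduct.induction_on with
          | zero => simp
          | add a b ha hb => simp only [map_add, ha, hb]
          | tmul s d => simp [inr, q, Pm, mk]
    have h1 := hnat (Coalgebra.comul (R := S) ((1 : S) ⊗ₜ[V] e))
    rw [comul_one_tmul] at h1
    have h2 : Algebra.TensorProduct.map (ψ : S ⊗[V] D →ₐ[S] B) (ψ : S ⊗[V] D →ₐ[S] B)
        (Coalgebra.comul (R := S) ((1 : S) ⊗ₜ[V] e)) = 0 := by
      refine (CoalgHomClass.map_comp_comul_apply ψ _).trans ?_
      rw [hψe, map_zero]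
    rw [h2, map_zero, Algebra.TensorProduct.map_tmul] at h1
    exact h1
  have v4 : (1 : S) ⊗ₜ[V] z4 = 0 := by
    have h0 : ψ (HopfAlgebra.antipode S ((1 : S) ⊗ₜ[V] e)) = 0 := by
      haveI : (RingHom.ker (ψ : S ⊗[V] D →ₐ[S] B)).IsHopfIdeal S := isHopfIdeal_ker ψ hψ
      exact Ideal.IsHopfIdeal.antipode_mem (R := S) (I := RingHom.ker (ψ : S ⊗[V] D →ₐ[S] B))
        (show (1 : S) ⊗ₜ[V] e ∈ RingHom.ker (ψ : S ⊗[V] D →ₐ[S] B) from hψe)
    have h1 := congrArg ρ h0
    rw [hρ, map_zero, antipode_one_tmul] at h1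
    exact h1
  obtain ⟨c1, hc1, k1⟩ := exists_unit_smul_eq_zero (R' := S) (e * e - e) v1
  obtain ⟨c2, hc2, k2⟩ := exists_unit_smul_eq_zero (R' := S) z2 v2
  obtain ⟨c3, hc3, k3⟩ := exists_unit_smul_eq_zero (R' := S) z3 v3
  obtain ⟨c4, hc4, k4⟩ := exists_unit_smul_eq_zero (R' := S) z4 v4
  refine ⟨c1 * c2 * c3 * c4, by simp only [map_mul]; exact ((hc1.mul hc2).mul hc3).mul hc4,
    fun L _ _ hL => ?_⟩
  simp only [map_mul, IsUnit.mul_iff] at hL
  obtain ⟨⟨⟨l1, l2⟩, l3⟩, l4⟩ := hL
  let e' : L ⊗[V] D := (1 : L) ⊗ₜ[V] e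
  let ι : D →ₐ[V] L ⊗[V] D := Algebra.TensorProduct.includeRight
  have hid : IsIdempotentElem e' := by
    have h := map_eq_zero_of_smul (L := L) ι.toLinearMap l1 k1
    change ι (e * e - e) = 0 at h
    rw [map_sub, map_mul, sub_eq_zero] at h
    exact h
  let j : (D ⧸ I) →ₐ[V] (L ⊗[V] D) ⧸ Ideal.span {e'} :=
    Ideal.Quotient.liftₐ I ((Ideal.Quotient.mkₐ V (Ideal.span {e'})).comp ι) fun a ha => by
      obtain ⟨b, rfl⟩ := Ideal.mem_span_singleton'.1 ha
      change Ideal.Quotient.mk (Ideal.span {e'}) (ι (b * e)) = 0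
      rw [Ideal.Quotient.eq_zero_iff_mem, map_mul]
      exact Ideal.mul_mem_left _ _ (Ideal.mem_span_singleton_self e')
  refine ⟨hid, isHopfIdeal_span e' ?_ ?_ ?_⟩
  · have h := map_eq_zero_of_smul (L := L) (Algebra.linearMap V L) l2 k2
    rw [counit_one_tmul]
    exact h
  · let m : (D ⧸ I) ⊗[V] (D ⧸ I) →ₐ[V] _ :=
      Algebra.TensorProduct.lift
        ((Algebra.TensorProduct.includeLeft (S := L) (R := L)
          (A := (L ⊗[V] D) ⧸ Ideal.span {e'}) (B := (L ⊗[V] D) ⧸ Ideal.span {e'})).restrictScalars V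
          |>.comp j)
        ((Algebra.TensorProduct.includeRight (R := L)
          (A := (L ⊗[V] D) ⧸ Ideal.span {e'}) (B := (L ⊗[V] D) ⧸ Ideal.span {e'})).restrictScalars V
          |>.comp j)
        fun a b => commute_all (X := ((L ⊗[V] D) ⧸ Ideal.span {e'}) ⊗[L] ((L ⊗[V] D) ⧸ Ideal.span {e'})) _ _
    have h := map_eq_zero_of_smul (L := L) m.toLinearMap l3 k3
    change m (Pm (Coalgebra.comul (R := V) e)) = 0 at h
    refine Eq.trans ?_ h
    change Algebra.TensorProduct.map (Ideal.Quotient.mkₐ L (Ideal.span {e'}))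
      (Ideal.Quotient.mkₐ L (Ideal.span {e'})) (Coalgebra.comul (R := L) ((1 : L) ⊗ₜ[V] e)) = _
    rw [show Coalgebra.comul (R := L) ((1 : L) ⊗ₜ[V] e) =
        ofFlat V D L ((1 : L) ⊗ₜ[V] Coalgebra.comul (R := V) e) by
      rw [← comul_one_tmul, ofFlat_toFlat]]
    generalize Coalgebra.comul (R := V) e = w
    induction w using TensorProduct.induction_on with
    | zero => simp
    | add a b ha hb => simp only [TensorProduct.tmul_add, map_add, ha, hb]
    | tmul x y =>
      simp [m, Pm, mk, j, ι, ofFlat, Algebra.TensorProduct.tmul_mul_tmul]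
  · have h := map_eq_zero_of_smul (L := L) j.toLinearMap l4 k4
    rw [antipode_one_tmul]
    exact h

end Groth.L24.ClopenIso
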