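import Groth.Agent.L24.ClopenIso.Stage
import Groth.Agent.L25.Char.DescentApply
import Groth.Agent.L25.Char.AdicConnected

/-!
# Descent of a splitting to a stage
-/

set_option autoImplicit false
set_option backward.isDefEq.respectTransparency.types false

universe u

open TensorProduct

namespace Groth.L24.ClopenIso

open Groth.L25.MultType Groth.L25.Char

variable {V S : Type u} [CommRing V] [CommRing S] [Algebra V S]
  {B : Type u} [CommRing B] [HopfAlgebra V B]

/-- An element of a base change vanishing at a flat local algebra vanishes after inverting an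
element. -/
theorem exists_kill_module {T U : Type u} [CommRing T] [IsLocalRing T] [Algebra V T]
    [CommRing U] [Algebra V U] [Algebra U T] [IsScalarTower V U T] [Module.Flat U T]
    {N : Type u} [AddCommGroup N] [Module V N] (z : U ⊗[V] N)
    (hz : (IsScalarTower.toAlgHom V U T).toLinearMap.rTensor N z = 0) :
    ∃ h : U, IsUnit (algebraMap U T h) ∧ h • z = 0 := by
  refine exists_unit_smul_eq_zero (R' := T) z ?_
  refine (AlgebraTensorModule.cancelBaseChange V U T T N).injective ?_
  rw [map_zero]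
  refine Eq.trans ?_ hz
  clear hz
  induction z using TensorProduct.induction_on with
  | zero => simp
  | add a b ha hb => rw [TensorProduct.tmul_add, map_add, ha, hb, map_add]
  | tmul u n =>
    rw [AlgebraTensorModule.cancelBaseChange_tmul, LinearMap.rTensor_tmul]
    simp [Algebra.smul_def]

set_option maxHeartbeats 1600000 in
/-- A splitting over a finite étale algebra over `S` coming from the base comes from a stage. -/
theorem exists_stage_split [IsLocalRing S] [Module.Flat V S] (hst : HasStages V S)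
    [Algebra.FinitePresentation V B] (T1 : Type u) [CommRing T1] [Algebra V T1] [Algebra.Etale V T1]
    [Module.Finite V T1] [Module.FaithfullyFlat V T1] [IsLocalRing (S ⊗[V] T1)]
    {M : Type u} [CommGroup M] [Monoid.FG M]
    (e : (S ⊗[V] T1) ⊗[V] B ≃ₐc[S ⊗[V] T1] MonoidAlgebra (S ⊗[V] T1) M) :
    ∃ W : Nhd V S, SGA3b.IsIsotrivial W.B (W.B ⊗[V] B) := by
  classical
  let T := S ⊗[V] T1
  haveI : Module.Flat V T := Module.Flat.trans V S T
  obtain ⟨t, ht⟩ := Monoid.FG.fg_top (M := M)
  choose F hF using fun z : T ⊗[V] B => TensorProduct.exists_finset z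
  obtain ⟨W, hW⟩ := hst.exists_lift T1 ((t.image (splitElem e)).biUnion fun z => (F z).image Prod.fst)
  let U := W.B ⊗[V] T1
  haveI : Algebra.Etale V U := Algebra.Etale.comp V W.B U
  let ψ0 : U →ₐ[V] T := Algebra.TensorProduct.map W.ψ (AlgHom.id V T1)
  have hlift : ∀ m ∈ t, ∃ x : U ⊗[V] B, mapT V B ψ0 x = splitElem e m := by
    intro m hm
    have hmem : splitElem e m ∈ t.image (splitElem e) := Finset.mem_image_of_mem _ hm
    have h1 : ∀ i ∈ F (splitElem e m), ∃ u : U, ψ0 u = i.1 := fun i hi => by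
      obtain ⟨u, hu⟩ := hW i.1 (Finset.mem_biUnion.2 ⟨_, hmem, Finset.mem_image_of_mem _ hi⟩)
      exact ⟨u, hu⟩
    choose u hu using h1
    refine ⟨∑ i ∈ (F (splitElem e m)).attach, u i.1 i.2 ⊗ₜ i.1.2, ?_⟩
    rw [map_sum]
    conv_rhs => rw [hF (splitElem e m), ← Finset.sum_attach]
    refine Finset.sum_congr rfl fun i _ => ?_
    simp [mapT, hu]
  choose x hx using hlift
  letI : Algebra U T := ψ0.toRingHom.toAlgebra
  haveI : IsScalarTower V U T := IsScalarTower.of_algebraMap_eq fun v => (ψ0.commutes v).symm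
  haveI : Module.Flat U T := flat_of_etale V U T
  have hgl : ∀ m : t, ∃ h : U, IsUnit (algebraMap U T h) ∧
      h • (comulT V B U (x m m.2) - sqT V B U (x m m.2)) = 0 ∧
      h * (Coalgebra.counit (R := U) (x m m.2) - 1) = 0 := by
    intro m
    have hsp : IsGL V B T (mapT V B ψ0 (x m m.2)) := by rw [hx]; exact isGL_splitElem e m
    obtain ⟨h1, hh1, k1⟩ := exists_kill_module (T := T)
      (comulT V B U (x m m.2) - sqT V B U (x m m.2)) (by
        change mapT V (B ⊗[V] B) ψ0 _ = 0
        rw [map_sub, ← comulT_mapT, ← sqT_mapT, hsp.1, sub_self])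
    obtain ⟨h2, hh2, k2⟩ := exists_unit_smul_eq_zero (R' := T)
      (Coalgebra.counit (R := U) (x m m.2) - 1) (by
        refine (TensorProduct.rid U T).injective ?_
        rw [map_zero, TensorProduct.rid_tmul, Algebra.smul_def, mul_one, map_sub, map_one]
        change ψ0 _ - 1 = 0
        rw [← counit_mapT, hsp.2, sub_self])
    refine ⟨h1 * h2, by rw [map_mul]; exact hh1.mul hh2, ?_, ?_⟩
    · rw [mul_comm, mul_smul, k1, smul_zero]
    · rw [mul_assoc, show h2 * _ = 0 from k2, mul_zero]
  choose h hh k1 k2 using hgl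
  let V0 : Nhd V T := { B := U, ψ := ψ0 }
  have hprod : IsUnit (V0.ψ (∏ m, h m)) := by
    rw [map_prod]; exact IsUnit.prod_iff.2 fun m _ => hh m
  let V1 := V0.away _ hprod
  let j : U →ₐ[V] V1.B := V0.toAway _ hprod
  have hju : ∀ m, IsUnit (j (h m)) := by
    have hp := V0.isUnit_toAway _ hprod
    rw [map_prod] at hp
    exact fun m => (IsUnit.prod_iff.1 hp) m (Finset.mem_univ m)
  have hV : ∀ m ∈ t, ∃ y, IsGL V B V1.B y ∧ mapT V B V1.ψ y = splitElem e m := by
    intro m hm
    refine ⟨mapT V B j (x m hm), ⟨?_, ?_⟩, ?_⟩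
    · rw [comulT_mapT, sqT_mapT, ← sub_eq_zero, ← map_sub]
      refine ((hju ⟨m, hm⟩).smul_eq_zero (x := mapT V (B ⊗[V] B) j _)).1 ?_
      rw [← mapT_smul, k1 ⟨m, hm⟩, map_zero]
    · rw [counit_mapT, ← sub_eq_zero, ← map_one j, ← map_sub]
      refine (hju ⟨m, hm⟩).mul_right_eq_zero.1 ?_
      rw [← map_mul, k2 ⟨m, hm⟩, map_zero]
    · rw [mapT_mapT, V0.ψ_comp_toAway]
      exact hx m hm
  obtain ⟨V2, χ, hχ⟩ := exists_nhd_charHom_of_chars e ht V1 hV
  obtain ⟨V3, ⟨e3⟩⟩ := exists_nhd_split_of_charHom e V2 χ hχ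
  -- factor through a stage
  obtain ⟨n, π, hπ, hrel⟩ := Algebra.FinitePresentation.out (R := V) (A := V3.B)
  obtain ⟨W', hW'⟩ := hst.exists_lift T1 (Finset.univ.image fun i => V3.ψ (π (MvPolynomial.X i)))
  let U' := W'.B ⊗[V] T1
  let ψ' : U' →ₐ[V] T := Algebra.TensorProduct.map W'.ψ (AlgHom.id V T1)
  choose u hu using fun i : Fin n => hW' _ (Finset.mem_image_of_mem _ (Finset.mem_univ i))
  let φ0 : MvPolynomial (Fin n) V →ₐ[V] U' := MvPolynomial.aeval u
  have hφ0 : ∀ p, ψ' (φ0 p) = V3.ψ (π p) := fun p => by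
    refine DFunLike.congr_fun (MvPolynomial.algHom_ext (A := T) (f := ψ'.comp φ0) (g := V3.ψ.comp π)
      fun i => ?_) p
    simp only [AlgHom.comp_apply, φ0, MvPolynomial.aeval_X]
    exact hu i
  obtain ⟨G, hG⟩ := hrel
  letI : Algebra W'.B S := W'.ψ.toRingHom.toAlgebra
  haveI : IsScalarTower V W'.B S := IsScalarTower.of_algebraMap_eq fun v => (W'.ψ.commutes v).symm
  haveI : Module.Flat W'.B S := flat_of_etale V W'.B S
  obtain ⟨c, hc, kill⟩ := exists_unit_smul_eq_zero_finset (R' := S) (G.image φ0) (by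
    intro z hz
    obtain ⟨p, hp, rfl⟩ := Finset.mem_image.1 hz
    have hp0 : π p = 0 := (hG.le (Ideal.subset_span hp) : p ∈ RingHom.ker π)
    have h0 : ψ' (φ0 p) = 0 := by rw [hφ0, hp0, map_zero]
    refine (Algebra.TensorProduct.cancelBaseChange V W'.B S S T1).injective ?_
    rw [map_zero]
    refine Eq.trans ?_ h0
    generalize φ0 p = z
    induction z using TensorProduct.induction_on with
    | zero => simp
    | add a b ha hb => rw [TensorProduct.tmul_add, map_add, ha, hb, map_add]
    | tmul w a =>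
      rw [Algebra.TensorProduct.cancelBaseChange_tmul]
      simp [ψ', Algebra.smul_def]
      rfl)
  have hc' : IsUnit (W'.ψ c) := hc
  let W2 := W'.away c hc'
  let jW : W'.B →ₐ[V] W2.B := W'.toAway c hc'
  let TL := W2.B ⊗[V] T1
  let jU : U' →ₐ[V] TL := Algebra.TensorProduct.map jW (AlgHom.id V T1)
  have hkill : RingHom.ker π ≤ RingHom.ker (jU.comp φ0) := by
    intro x hx
    refine (Ideal.span_le (I := RingHom.ker (jU.comp φ0))).2 (fun p hp => ?_) (hG.ge hx)
    have h1 := kill _ (Finset.mem_image_of_mem φ0 hp)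
    change jU (φ0 p) = 0
    have h2 : algebraMap W2.B TL (jW c) * jU (φ0 p) = 0 := by
      have h3 := congrArg jU h1
      rw [map_zero, Algebra.smul_def, map_mul] at h3
      rw [← h3]
      congr 1
    exact ((W'.isUnit_toAway c hc').map _).mul_right_eq_zero.1 h2
  let φ : V3.B →ₐ[V] TL := AlgHom.liftOfSurjective π hπ (jU.comp φ0) hkill
  letI : Algebra V3.B TL := φ.toRingHom.toAlgebra
  haveI : IsScalarTower V V3.B TL := IsScalarTower.of_algebraMap_eq fun v => (φ.commutes v).symm
  refine ⟨W2, TL, inferInstance, inferInstance, inferInstance, inferInstance, inferInstance, ?_⟩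
  exact isDiag_of_bialgEquiv (cancelBialg V W2.B TL B).symm
    (isDiag_of_tower (R' := V3.B) ⟨M, inferInstance, ⟨e3⟩⟩)

set_option maxHeartbeats 1000000 in
/-- Isotriviality comes from a stage. -/
theorem exists_stage_isotrivial [HenselianLocalRing S] [Module.Flat V S] (hst : HasStages V S)
    [Algebra.FinitePresentation V B] (hB : SGA3b.IsIsotrivial S (S ⊗[V] B)) :
    ∃ W : Nhd V S, SGA3b.IsIsotrivial W.B (W.B ⊗[V] B) := by
  obtain ⟨T0, _, _, het, hfin, hff, M, _, ⟨e0⟩⟩ := hB
  haveI := het
  haveI := hfin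
  haveI := hff
  haveI : Nontrivial T0 := (FaithfulSMul.algebraMap_injective S T0).nontrivial
  obtain ⟨m, hm⟩ := Ideal.exists_maximal T0
  haveI := hm
  let K := T0 ⧸ m
  letI : Field K := Ideal.Quotient.field m
  have hmS : m.comap (algebraMap S T0) = IsLocalRing.maximalIdeal S :=
    IsLocalRing.eq_maximalIdeal (Ideal.isMaximal_comap_of_isIntegral_of_isMaximal m)
  let κ := IsLocalRing.ResidueField S
  letI : Algebra κ K :=
    (Ideal.Quotient.lift (IsLocalRing.maximalIdeal S) (algebraMap S K) fun s hs => by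
      rw [← hmS] at hs
      exact Ideal.Quotient.eq_zero_iff_mem.2 hs).toAlgebra
  haveI : IsScalarTower S κ K := IsScalarTower.of_algebraMap_eq fun _ => rfl
  haveI : Module.Finite S K := inferInstance
  haveI : FiniteDimensional κ K := Module.Finite.of_restrictScalars_finite S κ K
  haveI : Algebra.FormallyUnramified T0 K :=
    Algebra.FormallyUnramified.of_surjective (Algebra.ofId T0 K) Ideal.Quotient.mk_surjective
  haveI : Algebra.FormallyUnramified S K := Algebra.FormallyUnramified.comp S T0 K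
  haveI : Algebra.FormallyUnramified κ K := Algebra.FormallyUnramified.of_restrictScalars S κ K
  haveI : Algebra.IsSeparable κ K := Algebra.FormallyUnramified.isSeparable κ K
  obtain ⟨W, T1, _, _, het1, hfin1, hff1, hrest⟩ := exists_residue_model hst K
  letI : Algebra W.B S := W.ψ.toRingHom.toAlgebra
  obtain ⟨hloc, π, hπ, hker⟩ := hrest
  haveI := hloc
  haveI := het1
  haveI := hfin1
  haveI := hff1
  haveI : IsScalarTower V W.B S := IsScalarTower.of_algebraMap_eq fun v => (W.ψ.commutes v).symm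
  haveI : Module.Flat W.B S := flat_of_etale V W.B S
  let T := S ⊗[W.B] T1
  haveI : Module.Finite S T := inferInstance
  let J := (IsLocalRing.maximalIdeal S).map (algebraMap S T)
  haveI : HenselianRing T J := Groth.L05.henselianRing_map_of_isIntegral _ T
  have hkerJ : RingHom.ker (π : T →ₐ[S] K) = J := hker
  let σ : T0 →ₐ[S] T ⧸ J :=
    ((Ideal.quotientEquivAlgOfEq S hkerJ.symm).trans
      (Ideal.quotientKerAlgEquivOfSurjective hπ)).symm.toAlgHom.comp (Ideal.Quotient.mkₐ S m)
  obtain ⟨τ, -, -⟩ := Groth.L05.existsUnique_algHom_lift_etale J σ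
  letI : Algebra T0 T := τ.toRingHom.toAlgebra
  haveI : IsScalarTower S T0 T := IsScalarTower.of_algebraMap_eq fun s => (τ.commutes s).symm
  haveI : IsScalarTower V W.B T := IsScalarTower.of_algebraMap_eq fun v => by
    rw [IsScalarTower.algebraMap_apply W.B S T, ← IsScalarTower.algebraMap_apply V W.B S,
      ← IsScalarTower.algebraMap_apply]
  let eT : T ⊗[S] (S ⊗[V] B) ≃ₐc[T] MonoidAlgebra T M :=
    (cancelBialg S T0 T (S ⊗[V] B)).symm.trans
      ((baseChangeEquiv T0 T e0).trans (scalarBialg T0 T M).symm)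
  let e : T ⊗[W.B] (W.B ⊗[V] B) ≃ₐc[T] MonoidAlgebra T M :=
    (cancelBialg V W.B T B).trans ((cancelBialg V S T B).symm.trans eT)
  haveI : Algebra.FiniteType T (MonoidAlgebra T M) :=
    Algebra.FiniteType.equiv (A := T ⊗[W.B] (W.B ⊗[V] B)) inferInstance e.toAlgEquiv
  haveI : Monoid.FG M := MonoidAlgebra.finiteType_iff_fg.1 (inferInstance : Algebra.FiniteType T _)
  haveI : Algebra.FinitePresentation W.B (W.B ⊗[V] B) := Algebra.FinitePresentation.baseChange W.B
  obtain ⟨U, hU⟩ := exists_stage_split (hst.of_etale W.B) T1 (B := W.B ⊗[V] B) e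
  letI : Algebra V U.B := ((algebraMap W.B U.B).comp (algebraMap V W.B)).toAlgebra
  haveI : IsScalarTower V W.B U.B := IsScalarTower.of_algebraMap_eq fun _ => rfl
  haveI : Algebra.Etale V U.B := Algebra.Etale.comp V W.B U.B
  exact ⟨{ B := U.B, ψ := U.ψ.restrictScalars V },
    isIsotrivial_of_bialgEquiv (cancelBialg V W.B U.B B) hU⟩

end Groth.L24.ClopenIso
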