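import Groth.Agent.L24.ClopenIso.AtPrime
import Groth.Agent.L24.ClopenIso.Kill
import Groth.Agent.L24.ClopenIso.Split
import Groth.Agent.L05.Henselization.Noeth

/-!
# The open and closed isotrivial subgroup over an étale neighbourhood
-/

set_option autoImplicit false
set_option backward.isDefEq.respectTransparency.types false

universe u

open TensorProduct

namespace Groth.L24.ClopenIso

open Groth.L25.MultType Groth.L25.Char Groth.L05.Henselization

/-- Two surjections with the same kernel have isomorphic targets. -/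
theorem nonempty_equiv_of_ker {R C B B' : Type u} [CommRing R] [CommRing C] [Bialgebra R C]
    [CommRing B] [Bialgebra R B] [CommRing B'] [Bialgebra R B'] (φ : C →ₐc[R] B)
    (hφ : Function.Surjective φ) (φ' : C →ₐc[R] B') (hφ' : Function.Surjective φ')
    (h : RingHom.ker (φ : C →ₐ[R] B) = RingHom.ker (φ' : C →ₐ[R] B')) :
    ∃ e : B ≃ₐc[R] B', ∀ c, e (φ c) = φ' c := by
  let f : B →ₐ[R] B' := AlgHom.liftOfSurjective (φ : C →ₐ[R] B) hφ (φ' : C →ₐ[R] B') h.le
  have hf : ∀ c, f (φ c) = φ' c := fun c => AlgHom.liftOfSurjective_apply _ _ _ _ _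
  have h1 : (Bialgebra.counitAlgHom R B').comp f = Bialgebra.counitAlgHom R B := by
    refine AlgHom.ext fun b => ?_
    obtain ⟨c, rfl⟩ := hφ b
    change Coalgebra.counit (R := R) (f (φ c)) = Coalgebra.counit (R := R) (φ c)
    rw [hf, CoalgHomClass.counit_comp_apply φ', CoalgHomClass.counit_comp_apply φ]
  have h2 : (Algebra.TensorProduct.map f f).comp (Bialgebra.comulAlgHom R B) =
      (Bialgebra.comulAlgHom R B').comp f := by
    refine AlgHom.ext fun b => ?_
    obtain ⟨c, rfl⟩ := hφ b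
    change Algebra.TensorProduct.map f f (Coalgebra.comul (R := R) (φ c)) =
      Coalgebra.comul (R := R) (f (φ c))
    rw [hf, ← CoalgHomClass.map_comp_comul_apply φ c, ← CoalgHomClass.map_comp_comul_apply φ' c]
    induction Coalgebra.comul (R := R) c using TensorProduct.induction_on with
    | zero => simp
    | add a b ha hb => simp only [map_add, ha, hb]
    | tmul a b =>
      rw [TensorProduct.map_tmul, TensorProduct.map_tmul, Algebra.TensorProduct.map_tmul]
      exact congrArg₂ (· ⊗ₜ[R] ·) (hf a) (hf b)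
  have hbij : Function.Bijective f := by
    refine ⟨(injective_iff_map_eq_zero f).2 fun b hb => ?_, fun b' => ?_⟩
    · obtain ⟨c, rfl⟩ := hφ b
      rw [hf] at hb
      have hc : c ∈ RingHom.ker (φ' : C →ₐ[R] B') := hb
      rw [← h] at hc
      exact hc
    · obtain ⟨c, rfl⟩ := hφ' b'
      exact ⟨φ c, hf c⟩
  exact ⟨BialgEquiv.ofBijective (BialgHom.ofAlgHom f h1 h2) hbij, hf⟩

/-- The kernel after composition with an isomorphism. -/
theorem ker_comp_equiv {R C D B : Type u} [CommRing R] [CommRing C] [Bialgebra R C] [CommRing D]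
    [Bialgebra R D] [CommRing B] [Bialgebra R B] (φ : C →ₐc[R] B) (E : D ≃ₐc[R] C) {x : D} {e : C}
    (hx : E x = e) (h : RingHom.ker (φ : C →ₐ[R] B) = Ideal.span {e}) :
    RingHom.ker ((φ.comp (E : D →ₐc[R] C)) : D →ₐ[R] B) = Ideal.span {x} := by
  ext d
  constructor
  · intro hd
    have h1 : E d ∈ RingHom.ker (φ : C →ₐ[R] B) := hd
    rw [h] at h1
    obtain ⟨a, ha⟩ := Ideal.mem_span_singleton'.1 h1
    refine Ideal.mem_span_singleton'.2 ⟨E.symm a, E.toAlgEquiv.injective ?_⟩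
    change E (E.symm a * x) = E d
    rw [map_mul, E.apply_symm_apply, hx, ha]
  · intro hd
    obtain ⟨a, rfl⟩ := Ideal.mem_span_singleton'.1 hd
    change φ (E (a * x)) = 0
    have h1 : e ∈ RingHom.ker (φ : C →ₐ[R] B) := h ▸ Ideal.mem_span_singleton_self e
    rw [map_mul, map_mul, hx, show φ e = 0 from h1, mul_zero]

/-- The quotient map after base change. -/
theorem baseChange_mk {W U D : Type u} [CommRing W] [CommRing U] [Algebra W U] [CommRing D]
    [HopfAlgebra W D] (e : D) [(Ideal.span {e}).IsHopfIdeal W] :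
    ∃ φ : U ⊗[W] D →ₐc[U] U ⊗[W] (D ⧸ Ideal.span {e}), Function.Surjective φ ∧
      RingHom.ker (φ : U ⊗[W] D →ₐ[U] U ⊗[W] (D ⧸ Ideal.span {e})) = Ideal.span {(1 : U) ⊗ₜ[W] e} := by
  refine ⟨Bialgebra.TensorProduct.map (BialgHom.id U U) (Bialgebra.Quotient.mkBialgHom (Ideal.span {e})),
    LinearMap.lTensor_surjective U (g := (Ideal.Quotient.mkₐ W (Ideal.span {e})).toLinearMap)
      Ideal.Quotient.mk_surjective, ?_⟩
  ext z
  have h1 := Algebra.TensorProduct.lTensor_ker (R := W) (A := U)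
    (Ideal.Quotient.mkₐ W (Ideal.span {e})) Ideal.Quotient.mk_surjective
  rw [show RingHom.ker (Ideal.Quotient.mkₐ W (Ideal.span {e})) = Ideal.span {e} from Ideal.mk_ker,
    Ideal.map_span, Set.image_singleton] at h1
  exact (iff_of_eq (congrArg (z ∈ ·) h1))

/-- A surjection with the kernel of the base changed quotient map. -/
theorem nonempty_equiv_quot {W U D B : Type u} [CommRing W] [CommRing U] [Algebra W U] [CommRing D]
    [HopfAlgebra W D] (e : D) [(Ideal.span {e}).IsHopfIdeal W] [CommRing B] [Bialgebra U B]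
    (φ : U ⊗[W] D →ₐc[U] B) (hφ : Function.Surjective φ)
    (hker : RingHom.ker (φ : U ⊗[W] D →ₐ[U] B) = Ideal.span {(1 : U) ⊗ₜ[W] e}) :
    Nonempty (B ≃ₐc[U] U ⊗[W] (D ⧸ Ideal.span {e})) := by
  obtain ⟨q, hq, hkq⟩ := baseChange_mk (W := W) (U := U) (D := D) e
  obtain ⟨eB, -⟩ := nonempty_equiv_of_ker φ hφ q hq (hker.trans hkq.symm)
  exact ⟨eB⟩

/-- The quotient after base change and transport. -/
theorem transport_quot {W U D C' : Type u} [CommRing W] [CommRing U] [Algebra W U] [CommRing D]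
    [HopfAlgebra W D] (e : D) [(Ideal.span {e}).IsHopfIdeal W] [CommRing C'] [HopfAlgebra U C']
    (E : U ⊗[W] D ≃ₐc[U] C') {e' : C'} (he' : E ((1 : U) ⊗ₜ[W] e) = e')
    (h : SGA3b.IsIsotrivial U (U ⊗[W] (D ⧸ Ideal.span {e}))) :
    ∃ (_ : (Ideal.span {e'}).IsHopfIdeal U), SGA3b.IsIsotrivial U (C' ⧸ Ideal.span {e'}) := by
  obtain ⟨q, hq, hkq⟩ := baseChange_mk (W := W) (U := U) (D := D) e
  have hE : E.symm e' = (1 : U) ⊗ₜ[W] e := by rw [← he', E.symm_apply_apply]
  have hk := ker_comp_equiv q E.symm hE hkq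
  let φ := q.comp (E.symm : C' →ₐc[U] U ⊗[W] D)
  have hs : Function.Surjective φ := fun b => by
    obtain ⟨x, rfl⟩ := hq b
    exact ⟨E x, congrArg q (E.symm_apply_apply x)⟩
  haveI hhopf : (Ideal.span {e'}).IsHopfIdeal U := hk ▸ isHopfIdeal_ker φ hs
  refine ⟨hhopf, ?_⟩
  obtain ⟨eQ, -⟩ := nonempty_equiv_of_ker φ hs (Bialgebra.Quotient.mkBialgHom (Ideal.span {e'}))
    Ideal.Quotient.mk_surjective (hk.trans (Ideal.mk_ker (I := Ideal.span {e'})).symm)
  exact isIsotrivial_of_bialgEquiv eQ h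

theorem hasStages_col (R K : Type u) [CommRing R] [CommRing K] [Algebra R K] :
    HasStages R (Col R K) := fun s => by
  obtain ⟨X, hX⟩ := exists_lift_finset s
  exact ⟨{ B := X.R, ψ := ι X }, hX⟩

set_option maxHeartbeats 6400000 in
/-- The open and closed isotrivial subgroup over an étale neighbourhood with the same residue
field. -/
theorem exists_nhd {R : Type u} [CommRing R] (p : Ideal R) [p.IsPrime] (C : Type u) [CommRing C]
    [HopfAlgebra R C] (hfp : Algebra.FinitePresentation R C)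
    (hfl : ∀ (q : Ideal C) [q.IsPrime], q.comap (algebraMap R C) = p →
      Module.Flat R (Localization.AtPrime q))
    (hs : SGA3b.IsMultType p.ResidueField (p.ResidueField ⊗[R] C)) :
    ∃ (R' : Type u) (_ : CommRing R') (_ : Algebra R R') (_ : Algebra.Etale R R')
      (φ : R' →ₐ[R] p.ResidueField) (e : R' ⊗[R] C) (_ : (Ideal.span {e}).IsHopfIdeal R'),
      IsIdempotentElem e ∧ SGA3b.IsIsotrivial R' ((R' ⊗[R] C) ⧸ Ideal.span {e}) ∧
      Algebra.TensorProduct.map φ (AlgHom.id R C) e = 0 := by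
  classical
  haveI := hfp
  let S := Col R p.ResidueField
  haveI : IsLocalRing S := isLocalRing_colPrime p
  have hmax := maximalIdeal_colPrime p
  haveI : HenselianRing S (IsLocalRing.maximalIdeal S) := by
    rw [hmax]; exact henselianRing_ker_ε (ε_surjective_prime p)
  haveI : HenselianLocalRing S := Groth.L05.henselianLocalRing_of_henselianRing
  haveI : Module.Flat R S := Groth.L05.Henselization.flat
  obtain ⟨B, _, _, φS, f, hB, hφS, hf, hker, hf0⟩ := exists_clopen_col p C hfp hfl hs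
  have hst := hasStages_col R p.ResidueField
  obtain ⟨W, hW⟩ := hst.exists_lift C {f}
  obtain ⟨e₀, he₀⟩ := hW f (Finset.mem_singleton_self f)
  letI : Algebra W.B S := W.ψ.toRingHom.toAlgebra
  haveI : IsScalarTower R W.B S := IsScalarTower.of_algebraMap_eq fun v => (W.ψ.commutes v).symm
  haveI : Module.Flat W.B S := flat_of_etale R W.B S
  let E₁ : S ⊗[W.B] (W.B ⊗[R] C) ≃ₐc[S] S ⊗[R] C := cancelBialg R W.B S C
  have hE₁ : ∀ z : W.B ⊗[R] C, E₁ ((1 : S) ⊗ₜ z) = W.ψ.toLinearMap.rTensor C z := fun z => by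
    change Algebra.TensorProduct.cancelBaseChange R W.B S S C ((1 : S) ⊗ₜ z) = _
    induction z using TensorProduct.induction_on with
    | zero => simp
    | add a b ha hb => rw [TensorProduct.tmul_add, map_add, ha, hb, map_add]
    | tmul w c =>
      rw [Algebra.TensorProduct.cancelBaseChange_tmul, LinearMap.rTensor_tmul, Algebra.smul_def,
        mul_one]
      rfl
  have hk₁ := ker_comp_equiv φS E₁ ((hE₁ e₀).trans he₀) hker
  have hid₁ : IsIdempotentElem ((1 : S) ⊗ₜ[W.B] e₀) := E₁.toAlgEquiv.injective (by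
    change E₁ (((1 : S) ⊗ₜ[W.B] e₀) * ((1 : S) ⊗ₜ[W.B] e₀)) = E₁ ((1 : S) ⊗ₜ[W.B] e₀)
    rw [map_mul, hE₁, he₀]; exact hf)
  obtain ⟨h, hh, hspan⟩ := exists_hopf_span e₀ (φS.comp (E₁ : S ⊗[W.B] (W.B ⊗[R] C) →ₐc[S] S ⊗[R] C))
    (hφS.comp E₁.surjective) hid₁ hk₁
  have hh' : IsUnit (W.ψ h) := hh
  let W2 := W.away h hh'
  let L := W2.B
  letI : Algebra L S := W2.ψ.toRingHom.toAlgebra
  haveI : IsScalarTower R L S := IsScalarTower.of_algebraMap_eq fun v => (W2.ψ.commutes v).symm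
  haveI : IsScalarTower W.B L S := IsScalarTower.of_algebraMap_eq fun w =>
    (DFunLike.congr_fun (W.ψ_comp_toAway h hh') w).symm
  haveI : Module.Flat L S := flat_of_etale R L S
  obtain ⟨hid₂, hhopf₂⟩ := hspan L (W.isUnit_toAway h hh')
  let D₂ := L ⊗[W.B] (W.B ⊗[R] C)
  let e₂ : D₂ := (1 : L) ⊗ₜ[W.B] e₀
  haveI : (Ideal.span {e₂}).IsHopfIdeal L := hhopf₂
  haveI : Algebra.FinitePresentation W.B (W.B ⊗[R] C) := Algebra.FinitePresentation.baseChange W.B
  haveI : Algebra.FinitePresentation L D₂ := Algebra.FinitePresentation.baseChange L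
  haveI : Algebra.FinitePresentation L (D₂ ⧸ Ideal.span {e₂}) :=
    Algebra.FinitePresentation.quotient (Submodule.fg_span_singleton e₂)
  -- over `S`
  let E₂ : S ⊗[L] D₂ ≃ₐc[S] S ⊗[W.B] (W.B ⊗[R] C) := cancelBialg W.B L S (W.B ⊗[R] C)
  have hE₂ : E₂ ((1 : S) ⊗ₜ e₂) = (1 : S) ⊗ₜ e₀ := by
    change Algebra.TensorProduct.cancelBaseChange W.B L S S (W.B ⊗[R] C) ((1 : S) ⊗ₜ e₂) = _
    rw [Algebra.TensorProduct.cancelBaseChange_tmul, one_smul]
  have hk₂ := ker_comp_equiv (φS.comp (E₁ : S ⊗[W.B] (W.B ⊗[R] C) →ₐc[S] S ⊗[R] C)) E₂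
    (x := (1 : S) ⊗ₜ[L] e₂) (e := (1 : S) ⊗ₜ[W.B] e₀) hE₂ hk₁
  let φ₂ : S ⊗[L] D₂ →ₐc[S] B :=
    (φS.comp (E₁ : S ⊗[W.B] (W.B ⊗[R] C) →ₐc[S] S ⊗[R] C)).comp
      (E₂ : S ⊗[L] D₂ →ₐc[S] S ⊗[W.B] (W.B ⊗[R] C))
  have hφ₂ : Function.Surjective φ₂ := fun b => by
    obtain ⟨c, rfl⟩ := hφS b
    refine ⟨E₂.symm (E₁.symm c), ?_⟩
    change φS (E₁ (E₂ (E₂.symm (E₁.symm c)))) = φS c
    rw [E₂.apply_symm_apply, E₁.apply_symm_apply]
  obtain ⟨eB⟩ := nonempty_equiv_quot (W := L) (U := S) (D := D₂) (B := B) e₂ φ₂ hφ₂ hk₂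
  obtain ⟨U, hU⟩ := exists_stage_isotrivial (V := L) (B := D₂ ⧸ Ideal.span {e₂}) (hst.of_etale L)
    (isIsotrivial_of_bialgEquiv eB hB)
  -- the neighbourhood
  letI : Algebra R U.B := ((algebraMap L U.B).comp (algebraMap R L)).toAlgebra
  haveI : IsScalarTower R L U.B := IsScalarTower.of_algebraMap_eq fun _ => rfl
  haveI : Algebra.Etale R U.B := Algebra.Etale.comp R L U.B
  letI : Algebra W.B U.B := ((algebraMap L U.B).comp (algebraMap W.B L)).toAlgebra
  haveI : IsScalarTower W.B L U.B := IsScalarTower.of_algebraMap_eq fun _ => rfl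
  haveI : IsScalarTower R W.B U.B := IsScalarTower.of_algebraMap_eq fun v => by
    rw [IsScalarTower.algebraMap_apply R L U.B, IsScalarTower.algebraMap_apply R W.B L]
    rfl
  let E₃ : U.B ⊗[L] D₂ ≃ₐc[U.B] U.B ⊗[R] C :=
    (cancelBialg W.B L U.B (W.B ⊗[R] C)).trans (cancelBialg R W.B U.B C)
  let e : U.B ⊗[R] C := E₃ ((1 : U.B) ⊗ₜ e₂)
  obtain ⟨hhopf, hiso⟩ := transport_quot (W := L) (U := U.B) (D := D₂) e₂ E₃ (e' := e) rfl hU
  refine ⟨U.B, inferInstance, inferInstance, inferInstance,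
    (ε R p.ResidueField).comp (U.ψ.restrictScalars R), e, hhopf, ?_, hiso, ?_⟩
  · have h1 : IsIdempotentElem ((1 : U.B) ⊗ₜ[L] e₂) := by
      change ((1 : U.B) ⊗ₜ[L] e₂) * ((1 : U.B) ⊗ₜ[L] e₂) = _
      rw [Algebra.TensorProduct.tmul_mul_tmul, one_mul, hid₂.eq]
    change E₃ _ * E₃ _ = E₃ _
    rw [← map_mul, h1.eq]
  · have key : Algebra.TensorProduct.map (U.ψ.restrictScalars R) (AlgHom.id R C) e = f := by
      rw [← he₀]
      change Algebra.TensorProduct.map (U.ψ.restrictScalars R) (AlgHom.id R C)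
        (Algebra.TensorProduct.cancelBaseChange R W.B U.B U.B C
          (Algebra.TensorProduct.cancelBaseChange W.B L U.B U.B (W.B ⊗[R] C)
            ((1 : U.B) ⊗ₜ ((1 : L) ⊗ₜ e₀)))) = _
      rw [Algebra.TensorProduct.cancelBaseChange_tmul, one_smul]
      suffices hgen : ∀ z : W.B ⊗[R] C, Algebra.TensorProduct.map (U.ψ.restrictScalars R) (AlgHom.id R C)
          (Algebra.TensorProduct.cancelBaseChange R W.B U.B U.B C ((1 : U.B) ⊗ₜ z)) =
          W.ψ.toLinearMap.rTensor C z from hgen e₀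
      intro z
      induction z using TensorProduct.induction_on with
      | zero => simp
      | add a b ha hb => rw [TensorProduct.tmul_add, map_add, map_add, map_add, ha, hb]
      | tmul w c =>
        rw [Algebra.TensorProduct.cancelBaseChange_tmul, Algebra.smul_def, mul_one,
          Algebra.TensorProduct.map_tmul, LinearMap.rTensor_tmul]
        congr 1
        change U.ψ (algebraMap L U.B (algebraMap W.B L w)) = W.ψ w
        rw [AlgHom.commutes]
        exact DFunLike.congr_fun (W.ψ_comp_toAway h hh') w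
    rw [← AlgHom.comp_id (AlgHom.id R C), Algebra.TensorProduct.map_comp, AlgHom.comp_apply, key]
    exact hf0

end Groth.L24.ClopenIso
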