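import Groth.Agent.L24.ClopenIso.Main
import Groth.Agent.L25.Bridge.Lift
import Groth.Agent.L25.Bridge.SubgroupLift
import Groth.Agent.L25.MultTypeBC
import Groth.Agent.L23.SchemeFlatAt
import Groth.Agent.L20.FlatStalk
import Groth.Agent.L13.FppfLocal.NisRefine
import Groth.Agent.L05.Henselization.AtPrime
import Groth.Prelude.Def_SGA3x
import Groth.Prelude.Def_TwC
import Mathlib.AlgebraicGeometry.Morphisms.Etale

/-!
# The open and closed isotrivial subgroup: scheme form
-/

set_option autoImplicit false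
set_option backward.isDefEq.respectTransparency.types false

universe u

open CategoryTheory CategoryTheory.Limits MonoidalCategory CartesianMonoidalCategory
open AlgebraicGeometry TensorProduct

namespace Groth.L24.ClopenIso

open Groth.L25

/-- A prime over the point contains the idempotent vanishing on the fibre. -/
theorem mem_of_point {R : Type u} [CommRing R] (p : Ideal R) [p.IsPrime] {R' : Type u} [CommRing R']
    [Algebra R R'] {C : Type u} [CommRing C] [Algebra R C] (φ : R' →ₐ[R] p.ResidueField) (e : R' ⊗[R] C)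
    (h : Algebra.TensorProduct.map φ (AlgHom.id R C) e = 0) (q : Ideal (R' ⊗[R] C)) [q.IsPrime]
    (hq : q.comap (algebraMap R' (R' ⊗[R] C)) = RingHom.ker φ) : e ∈ q := by
  haveI : (RingHom.ker φ).IsPrime := RingHom.ker_isPrime _
  obtain ⟨ψ, hψ, hψm⟩ := Groth.L05.Henselization.exists_retraction p φ (RingHom.ker φ) rfl
    (Groth.L05.Henselization.comap_ker_point p φ)
  let m := Ideal.ResidueField.map p (RingHom.ker φ) (algebraMap R R')
    (Groth.L05.Henselization.comap_ker_point p φ)
  have hmψ : ∀ x, m (ψ x) = x := fun x => ψ.injective (hψm (ψ x))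
  let χ : R' ⊗[R] C →ₐ[R] q.ResidueField := IsScalarTower.toAlgHom R (R' ⊗[R] C) q.ResidueField
  let ψ₀ : (RingHom.ker φ).ResidueField →+* q.ResidueField :=
    Ideal.ResidueField.map (RingHom.ker φ) q (algebraMap R' (R' ⊗[R] C)) hq.symm
  have hψ₀ : ∀ a, ψ₀ (algebraMap R' _ a) = χ (a ⊗ₜ 1) := fun a =>
    Ideal.ResidueField.map_algebraMap _ _ _ _ a
  have hη : ∀ a : R', ψ₀ (m (φ a)) = χ (a ⊗ₜ 1) := fun a => by
    rw [← hψ a, hmψ, hψ₀]
  let η : p.ResidueField →ₐ[R] q.ResidueField :=
    { ψ₀.comp m with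
      commutes' := fun r => by
        change ψ₀ (m (algebraMap R p.ResidueField r)) = _
        rw [← φ.commutes r, hη, ← χ.commutes r]
        rfl }
  let Λ : p.ResidueField ⊗[R] C →ₐ[R] q.ResidueField :=
    Algebra.TensorProduct.lift η (χ.comp Algebra.TensorProduct.includeRight) fun _ _ => Commute.all _ _
  have key : Λ.comp (Algebra.TensorProduct.map φ (AlgHom.id R C)) = χ := by
    refine Algebra.TensorProduct.ext (AlgHom.ext fun a => ?_) (AlgHom.ext fun c => ?_)
    · change Λ (φ a ⊗ₜ (1 : C)) = χ (a ⊗ₜ 1)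
      rw [Algebra.TensorProduct.lift_tmul, map_one, mul_one]
      exact hη a
    · change Λ (φ 1 ⊗ₜ c) = χ ((1 : R') ⊗ₜ c)
      rw [Algebra.TensorProduct.lift_tmul, map_one, map_one, one_mul]
      rfl
  have h1 : χ e = 0 := by rw [← key, AlgHom.comp_apply, h, map_zero]
  exact Ideal.algebraMap_residueField_eq_zero.1 h1

variable {S : Scheme.{u}}

/-- The pullback of an open immersion is an isomorphism when the base change lies inside. -/
theorem isIso_map_left {S' T : Scheme.{u}} {X Y : Over S'} (j : X ⟶ Y) [IsOpenImmersion j.left]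
    (h : T ⟶ S') (hr : Set.range (pullback.fst Y.hom h) ⊆ Set.range j.left) :
    IsIso ((Over.pullback h).map j).left := by
  let b := pullback.fst Y.hom h
  let l := IsOpenImmersion.lift j.left b hr
  have hl : l ≫ j.left = b := IsOpenImmersion.lift_fac j.left b hr
  have hw : l ≫ X.hom = pullback.snd Y.hom h ≫ h := by
    rw [← Over.w j, ← Category.assoc, hl]
    exact pullback.condition
  let v : pullback Y.hom h ⟶ pullback X.hom h := pullback.lift l (pullback.snd Y.hom h) hw
  have hfst : ((Over.pullback h).map j).left ≫ b = pullback.fst X.hom h ≫ j.left :=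
    ActBC.pullback_map_left_fst h j
  have hsnd : ((Over.pullback h).map j).left ≫ pullback.snd Y.hom h = pullback.snd X.hom h :=
    Over.w ((Over.pullback h).map j)
  refine ⟨v, pullback.hom_ext ?_ ?_, pullback.hom_ext ?_ ?_⟩
  · refine (cancel_mono j.left).1 ?_
    change ((((Over.pullback h).map j).left ≫ v) ≫ pullback.fst X.hom h) ≫ j.left =
      (𝟙 (pullback X.hom h) ≫ pullback.fst X.hom h) ≫ j.left
    rw [Category.assoc, Category.assoc, pullback.lift_fst_assoc, hl, hfst, Category.id_comp]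
  · change (((Over.pullback h).map j).left ≫ v) ≫ pullback.snd X.hom h =
      𝟙 (pullback X.hom h) ≫ pullback.snd X.hom h
    rw [Category.assoc, pullback.lift_snd, hsnd, Category.id_comp]
  · change (v ≫ ((Over.pullback h).map j).left) ≫ b = 𝟙 (pullback Y.hom h) ≫ b
    rw [Category.assoc, hfst, pullback.lift_fst_assoc, hl, Category.id_comp]
  · change (v ≫ ((Over.pullback h).map j).left) ≫ pullback.snd Y.hom h =
      𝟙 (pullback Y.hom h) ≫ pullback.snd Y.hom h
    rw [Category.assoc, hsnd, pullback.lift_snd, Category.id_comp]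

/-- The split form over a finite etale surjective cover. -/
theorem locally_finiteEtale_of_isIsotrivial {R : Type u} [CommRing R] {A : Type u} [CommRing A]
    [HopfAlgebra R A] [Algebra.FiniteType R A] (h : SGA3b.IsIsotrivial R A) :
    TwC.Locally (Spec (CommRingCat.of R)) TwC.Topology.finiteEtale (fun S'' g =>
      ∃ (M : Type) (_ : AddCommGroup M), AddGroup.FG M ∧
        Nonempty (Grp.mk (Red.bc g (Bridge.P R A)) ≅ Grp.mk (Red.DS S'' M))) := by
  obtain ⟨T, _, _, het, hfin, hff, N, _, ⟨d⟩⟩ := h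
  obtain ⟨M, _, hfg, ⟨d'⟩⟩ := Bridge.exists_fg_of_split (C := T) d
  haveI : Etale (Spec.map (CommRingCat.ofHom (algebraMap R T))) :=
    (HasRingHomProperty.Spec_iff (P := @Etale)).2 (RingHom.etale_algebraMap.2 het)
  haveI : IsFinite (Spec.map (CommRingCat.ofHom (algebraMap R T))) :=
    (IsFinite.SpecMap_iff _).2 (RingHom.finite_algebraMap.2 hfin)
  refine ⟨_, Spec.map (CommRingCat.ofHom (algebraMap R T)), inferInstance, inferInstance,
    ⟨fun x => PrimeSpectrum.comap_surjective_of_faithfullyFlat (A := R) (B := T) x⟩,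
    fun x => ⟨⊤, trivial, ?_, M, inferInstance, hfg, ⟨?_⟩⟩⟩
  · exact isClosed_univ
  · exact TrivLocus.restrictIso (Spec.map (CommRingCat.ofHom (algebraMap R T))) (Scheme.Opens.ι ⊤)
      (Bridge.splitIso rfl d') rfl

theorem exists_nhd_scheme (H : Over S) [GrpObj H]
    [IsAffineHom H.hom] [LocallyOfFinitePresentation H.hom] (s : S)
    (hfl : ∀ x : ↥H.left, H.hom.base x = s → (H.hom.stalkMap x).hom.Flat)
    (hs : SGA3x.IsMultTypeFT (Red.bc (S.fromSpecResidueField s) H)) :
    ∃ (S' : Scheme.{u}) (f : S' ⟶ S) (s' : S'), Etale f ∧ f.base s' = s ∧ IsIso (f.residueFieldMap s') ∧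
      ∃ (G' : Over S') (_ : GrpObj G') (j : G' ⟶ Red.bc f H), IsMonHom j ∧ IsOpenImmersion j.left ∧ IsClosedImmersion j.left ∧
        SGA3x.IsMultTypeFT G' ∧ TwC.Locally S' TwC.Topology.finiteEtale (fun S'' g => ∃ (M : Type) (_ : AddCommGroup M), AddGroup.FG M ∧ Nonempty (Grp.mk (Red.bc g G') ≅ Grp.mk (Red.DS S'' M))) ∧
        IsIso ((Over.pullback (S'.fromSpecResidueField s')).map j).left := by
  obtain ⟨U, hU, hsU, -⟩ := exists_isAffineOpen_mem_and_subset (x := s) (U := (⊤ : S.Opens)) trivial
  let R : Type u := Γ(S, U)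
  let θ : Spec (CommRingCat.of R) ⟶ S := hU.fromSpec
  haveI hθo : IsOpenImmersion θ := hU.isOpenImmersion_fromSpec
  obtain ⟨pp, hpp⟩ : ∃ pp, θ pp = s := by
    have h : s ∈ Set.range hU.fromSpec := by rw [hU.range_fromSpec]; exact hsU
    exact h
  haveI : IsAffineHom (Red.bc θ H).hom := inferInstanceAs (IsAffineHom (pullback.snd H.hom θ))
  haveI hlfp : LocallyOfFinitePresentation (Red.bc θ H).hom :=
    inferInstanceAs (LocallyOfFinitePresentation (pullback.snd H.hom θ))
  haveI : IsAffine (Red.bc θ H).left := isAffine_of_isAffineHom (Red.bc θ H).hom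
  obtain ⟨C, _, _, ⟨eC⟩⟩ := Bridge.exists_hopf (Red.bc θ H)
  let p : Ideal R := pp.asIdeal
  haveI : p.IsPrime := pp.isPrime
  let eO := (Over.forget _).mapIso ((Grp.forget _).mapIso eC)
  have hfp : Algebra.FinitePresentation R C := by
    have h : LocallyOfFinitePresentation (Bridge.P R C).hom := by
      rw [show (Bridge.P R C).hom = eO.inv ≫ (Red.bc θ H).hom from (Over.w ((Grp.forget _).mapIso eC).inv).symm]
      haveI : IsIso eO.inv := eO.symm.isIso_hom
      exact (MorphismProperty.cancel_left_of_respectsIso @LocallyOfFinitePresentation eO.inv _).2 hlfp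
    change LocallyOfFinitePresentation (Spec.map (CommRingCat.ofHom (algebraMap R C))) at h
    rw [HasRingHomProperty.Spec_iff (P := @LocallyOfFinitePresentation), CommRingCat.hom_ofHom,
      RingHom.finitePresentation_algebraMap] at h
    exact h
  have sq : IsPullback (eO.inv ≫ pullback.fst H.hom θ) (Bridge.P R C).hom H.hom θ :=
    IsPullback.of_iso (IsPullback.of_hasPullback H.hom θ) eO (Iso.refl _) (Iso.refl _) (Iso.refl _)
      (by rw [Iso.refl_hom, Category.comp_id]; exact (eO.hom_inv_id_assoc _).symm)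
      (by rw [Iso.refl_hom, Category.comp_id]; exact (Over.w ((Grp.forget _).mapIso eC).hom).symm)
      (by simp) (by simp)
  have hfl' : ∀ (q : Ideal C) [q.IsPrime], q.comap (algebraMap R C) = p →
      Module.Flat R (Localization.AtPrime q) := by
    intro q _ hq
    let x : ↥(Bridge.P R C).left := (⟨q, inferInstance⟩ : PrimeSpectrum C)
    have hx : (Bridge.P R C).hom x = pp := PrimeSpectrum.ext hq
    have h1 : H.hom ((eO.inv ≫ pullback.fst H.hom θ) x) = s := by
      rw [← Scheme.Hom.comp_apply, sq.w, Scheme.Hom.comp_apply]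
      exact (congrArg (fun t => θ t) hx).trans hpp
    have h2 := Groth.L23.flat_stalkMap_baseChange sq x (hfl _ h1)
    have hR := (RingHom.toMorphismProperty_respectsIso_iff (P := fun f => RingHom.Flat f)).mp
      RingHom.Flat.respectsIso
    have h3 := ((RingHom.toMorphismProperty fun f => RingHom.Flat f).arrow_mk_iso_iff
      (Scheme.arrowStalkMapSpecIso (CommRingCat.ofHom (algebraMap R C)) (⟨q, inferInstance⟩ : PrimeSpectrum C))).1 h2
    exact (Groth.L25.Char.Model.flat_localization_iff q.primeCompl (Localization.AtPrime q)).2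
      ((Groth.L20.flat_localRingHom_iff (q.comap (algebraMap R C)) q rfl).1 h3)
  let σ : Spec (CommRingCat.of p.ResidueField) ⟶ Spec (CommRingCat.of R) :=
    Spec.map (CommRingCat.ofHom (algebraMap R p.ResidueField))
  obtain ⟨g, hg⟩ : ∃ g : Spec (CommRingCat.of p.ResidueField) ⟶ Spec (S.residueField s),
      g ≫ S.fromSpecResidueField s = σ ≫ θ := by
    obtain ⟨⟨x, φ⟩, hx⟩ := (Scheme.SpecToEquivOfField p.ResidueField S).symm.surjective (σ ≫ θ)
    have hx' : Spec.map φ ≫ S.fromSpecResidueField x = σ ≫ θ := hx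
    obtain rfl : x = s := by
      let z : ↥(Spec (CommRingCat.of p.ResidueField)) := IsLocalRing.closedPoint p.ResidueField
      have h := congrArg (fun m : Spec (CommRingCat.of p.ResidueField) ⟶ S => m z) hx'
      have hσ : σ z = pp := PrimeSpectrum.ext (by
        change (IsLocalRing.maximalIdeal p.ResidueField).comap (algebraMap R p.ResidueField) = p
        rw [IsLocalRing.maximalIdeal_eq_bot, ← RingHom.ker_eq_comap_bot, Ideal.ker_algebraMap_residueField])
      change S.fromSpecResidueField x (Spec.map φ z) = θ (σ z) at h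
      rw [Scheme.fromSpecResidueField_apply, hσ, hpp] at h
      exact h
    exact ⟨_, hx'⟩
  have hκ : SGA3b.IsMultType p.ResidueField (p.ResidueField ⊗[R] C) := by
    have h1 := MultTypeBC.isMultTypeFT_bc hs g
    let i : Grp.mk (Red.bc g (Red.bc (S.fromSpecResidueField s) H)) ≅
        Grp.mk (Bridge.P p.ResidueField (p.ResidueField ⊗[R] C)) :=
      Grp.mkIso' (ActBC.bcCompIso g (S.fromSpecResidueField s) H hg) ≪≫
        (Grp.mkIso' (ActBC.bcCompIso σ θ H rfl)).symm ≪≫ (Over.pullback σ).mapGrp.mapIso eC ≪≫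
        Bridge.bcIso R C p.ResidueField
    exact Bridge.isMultType_of_locally (p.ResidueField ⊗[R] C)
      (Bridge.locally_of_ft (Bridge.isMultTypeFT_of_iso i h1))
  obtain ⟨R', _, _, _, φ, e, _, he, hiso, hφe⟩ := exists_nhd p C hfp hfl' hκ
  let P' : Ideal R' := RingHom.ker φ
  haveI : P'.IsPrime := RingHom.ker_isPrime _
  have hP' := Groth.L05.Henselization.comap_ker_point p φ
  haveI : P'.LiesOver p := ⟨hP'⟩
  let η : Spec (CommRingCat.of R') ⟶ Spec (CommRingCat.of R) := Spec.map (CommRingCat.ofHom (algebraMap R R'))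
  haveI : Etale η := (HasRingHomProperty.Spec_iff (P := @Etale)).2 (RingHom.etale_algebraMap.2 inferInstance)
  let s' : ↥(Spec (CommRingCat.of R')) := (⟨P', inferInstance⟩ : PrimeSpectrum R')
  have hs' : η s' = pp := PrimeSpectrum.ext hP'.symm
  have hres : IsIso (η.residueFieldMap s') := Groth.Agent.L13.FppfLocal.isIso_residueFieldMap_spec p P'
    (Groth.L05.Henselization.bijective_of_point p φ P' rfl hP')
  haveI : Algebra.FiniteType R' ((R' ⊗[R] C) ⧸ Ideal.span {e}) := by
    haveI := hfp
    haveI : Algebra.FinitePresentation R' (R' ⊗[R] C) := Algebra.FinitePresentation.baseChange R'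
    infer_instance
  let E : Grp.mk (Red.bc (η ≫ θ) H) ≅ Grp.mk (Bridge.P R' (R' ⊗[R] C)) :=
    (Grp.mkIso' (ActBC.bcCompIso η θ H rfl)).symm ≪≫ (Over.pullback η).mapGrp.mapIso eC ≪≫
      Bridge.bcIso R C R'
  let mk : Grp.mk (Bridge.P R' ((R' ⊗[R] C) ⧸ Ideal.span {e})) ⟶ Grp.mk (Bridge.P R' (R' ⊗[R] C)) :=
    (hopfSpec (CommRingCat.of R')).map
      (CommHopfAlgCat.ofHom (Bialgebra.Quotient.mkBialgHom (R := R') (Ideal.span {e}))).op
  let jG := mk ≫ E.inv
  let eE := (Over.forget _).mapIso ((Grp.forget _).mapIso E)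
  let m : CommRingCat.of (R' ⊗[R] C) ⟶ CommRingCat.of ((R' ⊗[R] C) ⧸ Ideal.span {e}) :=
    CommRingCat.ofHom (Ideal.Quotient.mk (Ideal.span {e}))
  have hj : jG.hom.hom.left = Spec.map m ≫ eE.inv := rfl
  haveI : IsClosedImmersion (Spec.map m) := IsClosedImmersion.spec_of_surjective m Ideal.Quotient.mk_surjective
  have hmo : IsOpenImmersion (Spec.map m) := (isOpenImmersion_SpecMap_iff_of_surjective m
    Ideal.Quotient.mk_surjective).2 ⟨e, he, Ideal.mk_ker⟩
  haveI : IsIso eE.inv := eE.symm.isIso_hom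
  haveI hopen : IsOpenImmersion jG.hom.hom.left := by rw [hj]; exact MorphismProperty.comp_mem _ _ _ hmo inferInstance
  have hclosed : IsClosedImmersion jG.hom.hom.left := by rw [hj]; exact MorphismProperty.comp_mem _ _ _ inferInstance inferInstance
  refine ⟨_, η ≫ θ, s', inferInstance, ?_, ?_, Bridge.P R' ((R' ⊗[R] C) ⧸ Ideal.span {e}), inferInstance,
    jG.hom.hom, inferInstance, hopen, hclosed,
    Bridge.isMultTypeFT_of_isMultType (MultType.isMultType_of_isIsotrivial hiso),
    locally_finiteEtale_of_isIsotrivial hiso, ?_⟩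
  · change θ (η s') = s
    rw [hs', hpp]
  · rw [Scheme.residueFieldMap_comp]
    have h1 : IsIso (θ.residueFieldMap (η s')) := inferInstance
    exact @IsIso.comp_isIso _ _ _ _ _ _ _ h1 hres
  · refine isIso_map_left _ _ ?_
    rintro _ ⟨z, rfl⟩
    let y := pullback.fst (Red.bc (η ≫ θ) H).hom ((Spec (CommRingCat.of R')).fromSpecResidueField s') z
    have hy : (Red.bc (η ≫ θ) H).hom y = s' := by
      rw [← Scheme.Hom.comp_apply, pullback.condition, Scheme.Hom.comp_apply]
      exact Scheme.fromSpecResidueField_apply _ _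
    let y' : PrimeSpectrum (R' ⊗[R] C) := eE.hom y
    have hy' : (Bridge.P R' (R' ⊗[R] C)).hom (eE.hom y) = s' := by
      have h1 : eE.hom ≫ (Bridge.P R' (R' ⊗[R] C)).hom = (Red.bc (η ≫ θ) H).hom :=
        Over.w ((Grp.forget _).mapIso E).hom
      exact (congrArg (fun m => m y) h1).trans hy
    have hmem : e ∈ y'.asIdeal := mem_of_point p φ e hφe y'.asIdeal (congrArg PrimeSpectrum.asIdeal hy')
    obtain ⟨w, hw⟩ : y' ∈ Set.range (PrimeSpectrum.comap (Ideal.Quotient.mk (Ideal.span {e}))) := by
      rw [range_comap_of_surjective _ _ Ideal.Quotient.mk_surjective, Ideal.mk_ker, PrimeSpectrum.mem_zeroLocus,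
        SetLike.coe_subset_coe, Ideal.span_le, Set.singleton_subset_iff]
      exact hmem
    refine ⟨w, ?_⟩
    have h2 : eE.inv (eE.hom y) = y := congrArg (fun m => m y) eE.hom_inv_id
    rw [hj]
    exact (congrArg (fun t => eE.inv t) hw).trans h2

end Groth.L24.ClopenIso
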