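import Groth.Agent.L25.Char.Spread
import Groth.Agent.L25.MultType.Isotrivial
import Groth.Agent.L05.Hensel.Homs
import Groth.Agent.L05.Hensel.Perm
import Groth.Agent.L11.Az.EtaleSub
import Mathlib.RingTheory.AdjoinRoot
import Mathlib.FieldTheory.PrimitiveElement
import Mathlib.RingTheory.Unramified.Field
import Mathlib.RingTheory.Etale.StandardEtale
import Mathlib.LinearAlgebra.TensorProduct.RightExactness
import Mathlib.RingTheory.TensorProduct.Finite

/-!
# Isotriviality over a henselian limit of étale algebras comes from a stage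

Let `S` be a flat henselian local `V`-algebra every finite subset of which lies in the image of an
étale `V`-algebra. A group over `V` which becomes isotrivial of multiplicative type over `S` is
already so over such an étale algebra.
-/

set_option autoImplicit false
set_option backward.isDefEq.respectTransparency.types false

universe u

open TensorProduct Polynomial

namespace Groth.L24.ClopenIso

open Groth.L25.MultType Groth.L25.Char

/-- Every finite subset comes from an étale algebra. -/
def HasStages (V S : Type u) [CommRing V] [CommRing S] [Algebra V S] : Prop :=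
  ∀ s : Finset S, ∃ W : Nhd V S, ∀ x ∈ s, x ∈ W.ψ.range

variable {V S : Type u} [CommRing V] [CommRing S] [Algebra V S]

/-- The condition passes to étale algebras mapping to `S`. -/
theorem HasStages.of_etale (hst : HasStages V S) (W : Type u) [CommRing W] [Algebra V W]
    [Algebra.Etale V W] [Algebra W S] [IsScalarTower V W S] : HasStages W S := fun s => by
  obtain ⟨U, hU⟩ := hst s
  let ψ : W ⊗[V] U.B →ₐ[W] S :=
    Algebra.TensorProduct.lift (Algebra.ofId W S) U.ψ fun _ _ => Commute.all _ _
  refine ⟨{ B := W ⊗[V] U.B, ψ := ψ }, fun x hx => ?_⟩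
  obtain ⟨y, rfl⟩ := hU x hx
  exact ⟨(1 : W) ⊗ₜ y, by simp [ψ]⟩

/-- Finitely many elements of a base change come from a stage. -/
theorem HasStages.exists_lift (hst : HasStages V S) (N : Type u) [AddCommGroup N] [Module V N]
    (s : Finset (S ⊗[V] N)) :
    ∃ W : Nhd V S, ∀ x ∈ s, x ∈ LinearMap.range (W.ψ.toLinearMap.rTensor N) := by
  classical
  choose F hF using fun x : S ⊗[V] N => TensorProduct.exists_finset x
  obtain ⟨W, hW⟩ := hst (s.biUnion fun x => (F x).image Prod.fst)
  refine ⟨W, fun x hx => ?_⟩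
  rw [hF x]
  refine Submodule.sum_mem _ fun i hi => ?_
  obtain ⟨y, hy⟩ := hW i.1 (Finset.mem_biUnion.2 ⟨x, hx, Finset.mem_image_of_mem _ hi⟩)
  exact ⟨y ⊗ₜ i.2, by rw [LinearMap.rTensor_tmul]; exact congrArg (· ⊗ₜ[V] i.2) hy⟩

section adjoin

variable [IsLocalRing S] {K : Type u} [Field K] [Algebra S K]
  [Algebra (IsLocalRing.ResidueField S) K] [IsScalarTower S (IsLocalRing.ResidueField S) K]
  [Algebra V K] [IsScalarTower V S K]

set_option maxHeartbeats 1000000 in
/-- A monic lift of the minimal polynomial of a generator of a residue extension defines a local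
algebra with that residue field. -/
theorem local_of_adjoinRoot (α : K)
    (hα : IntermediateField.adjoin (IsLocalRing.ResidueField S) {α} = ⊤)
    [FiniteDimensional (IsLocalRing.ResidueField S) K]
    (F : V[X]) (hF : F.Monic)
    (hFα : F.map (algebraMap V (IsLocalRing.ResidueField S)) =
      minpoly (IsLocalRing.ResidueField S) α) :
    ∃ π : S ⊗[V] AdjoinRoot F →ₐ[S] K, Function.Surjective π ∧
      π ((1 : S) ⊗ₜ AdjoinRoot.root F) = α ∧
      RingHom.ker π = (IsLocalRing.maximalIdeal S).map (algebraMap S (S ⊗[V] AdjoinRoot F)) ∧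
      IsLocalRing (S ⊗[V] AdjoinRoot F) := by
  let κ := IsLocalRing.ResidueField S
  haveI : IsScalarTower V κ K := IsScalarTower.of_algebraMap_eq fun v => by
    rw [IsScalarTower.algebraMap_apply V S K, IsScalarTower.algebraMap_apply S κ K,
      ← IsScalarTower.algebraMap_apply V S κ]
  haveI : Module.Free V (AdjoinRoot F) := hF.free_adjoinRoot
  haveI : Module.Finite V (AdjoinRoot F) := hF.finite_adjoinRoot
  haveI : Nontrivial V := (algebraMap V S).domain_nontrivial
  have hev : F.eval₂ (Algebra.ofId V K : V →ₐ[V] K) α = 0 := by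
    rw [show ((Algebra.ofId V K : V →ₐ[V] K) : V →+* K) =
        (algebraMap κ K).comp (algebraMap V κ) from IsScalarTower.algebraMap_eq V κ K,
      ← Polynomial.eval₂_map, hFα]
    exact minpoly.aeval κ α
  let π1 : AdjoinRoot F →ₐ[V] K := AdjoinRoot.liftAlgHom F (Algebra.ofId V K) α hev
  have hroot : π1 (AdjoinRoot.root F) = α := AdjoinRoot.lift_root hev
  let π : S ⊗[V] AdjoinRoot F →ₐ[S] K :=
    Algebra.TensorProduct.lift (Algebra.ofId S K) π1 fun _ _ => Commute.all _ _
  let πk : κ ⊗[V] AdjoinRoot F →ₐ[κ] K :=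
    Algebra.TensorProduct.lift (Algebra.ofId κ K) π1 fun _ _ => Commute.all _ _
  have hαint : IsIntegral κ α := Algebra.IsIntegral.isIntegral α
  have hsurjk : Function.Surjective πk := by
    rw [← AlgHom.range_eq_top, eq_top_iff]
    intro x _
    have h1 : x ∈ (IntermediateField.adjoin κ {α}).toSubalgebra := by
      rw [hα]; exact trivial
    rw [IntermediateField.adjoin_simple_toSubalgebra_of_isAlgebraic hαint.isAlgebraic] at h1
    refine Algebra.adjoin_le ?_ h1
    rintro _ rfl
    exact ⟨(1 : κ) ⊗ₜ AdjoinRoot.root F, by simp [πk, hroot]⟩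
  have hinjk : Function.Injective πk := by
    refine (LinearMap.injective_iff_surjective_of_finrank_eq_finrank ?_ (f := πk.toLinearMap)).2 hsurjk
    rw [Module.finrank_baseChange]
    have h1 : Module.finrank V (AdjoinRoot F) = F.natDegree := (AdjoinRoot.powerBasis' hF).finrank
    have h2 : Module.finrank κ K = (minpoly κ α).natDegree := by
      rw [← IntermediateField.adjoin.finrank hαint, hα, IntermediateField.finrank_top']
    rw [h1, h2, ← hFα, hF.natDegree_map]
  let r : S →ₐ[V] κ := IsScalarTower.toAlgHom V S κ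
  let q : S ⊗[V] AdjoinRoot F →ₐ[V] κ ⊗[V] AdjoinRoot F :=
    Algebra.TensorProduct.map r (AlgHom.id V (AdjoinRoot F))
  have hq : ∀ z, π z = πk (q z) := fun z => by
    induction z using TensorProduct.induction_on with
    | zero => simp
    | add a b ha hb => simp only [map_add, ha, hb]
    | tmul s t =>
      simp only [π, πk, q, r, Algebra.TensorProduct.map_tmul, Algebra.TensorProduct.lift_tmul,
        AlgHom.id_apply, IsScalarTower.coe_toAlgHom', Algebra.ofId_apply,
        ← IsScalarTower.algebraMap_apply]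
  have hqs : Function.Surjective q := by
    exact LinearMap.rTensor_surjective (AdjoinRoot F) (g := r.toLinearMap) IsLocalRing.residue_surjective
  have hsurj : Function.Surjective π := fun y => by
    obtain ⟨w, rfl⟩ := hsurjk y
    obtain ⟨z, rfl⟩ := hqs w
    exact ⟨z, hq z⟩
  have hker : RingHom.ker π = (IsLocalRing.maximalIdeal S).map (algebraMap S (S ⊗[V] AdjoinRoot F)) := by
    have h1 : RingHom.ker π = RingHom.ker q := by
      ext z
      rw [RingHom.mem_ker, RingHom.mem_ker, hq, map_eq_zero_iff _ hinjk]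
    rw [h1, Algebra.TensorProduct.rTensor_ker r IsLocalRing.residue_surjective,
      show RingHom.ker r = IsLocalRing.maximalIdeal S from IsLocalRing.ker_residue]
    rfl
  refine ⟨π, hsurj, by simp [π, hroot], hker, ?_⟩
  haveI : Module.Finite S (S ⊗[V] AdjoinRoot F) := inferInstance
  haveI hmax : (RingHom.ker π).IsMaximal := RingHom.ker_isMaximal_of_surjective π hsurj
  refine IsLocalRing.of_unique_max_ideal ⟨RingHom.ker π, hmax, fun m hm => ?_⟩
  haveI := hm
  refine (hmax.eq_of_le hm.ne_top ?_).symm
  rw [hker, Ideal.map_le_iff_le_comap]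
  exact (IsLocalRing.eq_maximalIdeal (Ideal.isMaximal_comap_of_isIntegral_of_isMaximal m)).ge

end adjoin

/-- A finite étale residue extension is realised at a stage. -/
theorem exists_residue_model [IsLocalRing S] [Module.Flat V S] (hst : HasStages V S)
    (K : Type u) [Field K] [Algebra S K] [Algebra (IsLocalRing.ResidueField S) K]
    [IsScalarTower S (IsLocalRing.ResidueField S) K]
    [FiniteDimensional (IsLocalRing.ResidueField S) K]
    [Algebra.IsSeparable (IsLocalRing.ResidueField S) K] :
    ∃ (W : Nhd V S) (T : Type u) (_ : CommRing T) (_ : Algebra W.B T),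
      Algebra.Etale W.B T ∧ Module.Finite W.B T ∧ Module.FaithfullyFlat W.B T ∧
      (letI := W.ψ.toRingHom.toAlgebra
       IsLocalRing (S ⊗[W.B] T) ∧ ∃ π : S ⊗[W.B] T →ₐ[S] K, Function.Surjective π ∧
         RingHom.ker π = (IsLocalRing.maximalIdeal S).map (algebraMap S (S ⊗[W.B] T))) := by
  classical
  let κ := IsLocalRing.ResidueField S
  obtain ⟨α, hα⟩ := Field.exists_primitive_element κ K
  let g := minpoly κ α
  have hg : g.Monic := minpoly.monic (Algebra.IsIntegral.isIntegral α)
  have hlift : g ∈ Polynomial.lifts (algebraMap S κ) :=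
    Polynomial.mem_lifts_of_surjective IsLocalRing.residue_surjective g
  obtain ⟨FS, hFS, -, hFSm⟩ := Polynomial.lifts_and_natDegree_eq_and_monic hlift hg
  obtain ⟨W, hW⟩ := hst ((Finset.range (FS.natDegree + 1)).image FS.coeff)
  have hlift' : FS ∈ Polynomial.lifts W.ψ.toRingHom := by
    rw [Polynomial.lifts_iff_coeff_lifts]
    intro m
    by_cases hm : m ≤ FS.natDegree
    · exact hW _ (Finset.mem_image.mpr ⟨m, Finset.mem_range.mpr (by omega), rfl⟩)
    · exact ⟨0, by rw [map_zero, Polynomial.coeff_eq_zero_of_natDegree_lt (by omega)]⟩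
  obtain ⟨F, hF, -, hFm⟩ := Polynomial.lifts_and_natDegree_eq_and_monic hlift' hFSm
  letI : Algebra W.B S := W.ψ.toRingHom.toAlgebra
  haveI : IsScalarTower V W.B S := IsScalarTower.of_algebraMap_eq fun v => (W.ψ.commutes v).symm
  haveI : Module.Flat W.B S := flat_of_etale V W.B S
  letI : Algebra W.B K := ((algebraMap S K).comp (algebraMap W.B S)).toAlgebra
  haveI : IsScalarTower W.B S K := IsScalarTower.of_algebraMap_eq fun _ => rfl
  have hF' : F.map (algebraMap W.B κ) = g := by
    rw [IsScalarTower.algebraMap_eq W.B S κ, ← Polynomial.map_map]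
    exact (congrArg (Polynomial.map (algebraMap S κ)) hF).trans hFS
  haveI : IsScalarTower W.B κ K := IsScalarTower.of_algebraMap_eq fun w => by
    rw [IsScalarTower.algebraMap_apply W.B S K, IsScalarTower.algebraMap_apply S κ K,
      ← IsScalarTower.algebraMap_apply W.B S κ]
  obtain ⟨π, hπ, hπα, hker, hloc⟩ := local_of_adjoinRoot (V := W.B) α hα F hFm hF'
  haveI := hloc
  -- invert the derivative
  let d : AdjoinRoot F := AdjoinRoot.mk F (derivative F)
  have hπd : π ((1 : S) ⊗ₜ d) = aeval α (derivative g) := by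
    have h1 : (1 : S) ⊗ₜ[W.B] d = aeval ((1 : S) ⊗ₜ[W.B] AdjoinRoot.root F) (derivative F) := by
      have h2 := Polynomial.aeval_algHom_apply
        (Algebra.TensorProduct.includeRight : AdjoinRoot F →ₐ[W.B] S ⊗[W.B] AdjoinRoot F)
        (AdjoinRoot.root F) (derivative F)
      simp only [Algebra.TensorProduct.includeRight_apply, AdjoinRoot.aeval_eq] at h2
      exact h2.symm
    rw [h1]
    change (π.restrictScalars W.B) _ = _
    rw [← Polynomial.aeval_algHom_apply]
    change aeval (π ((1 : S) ⊗ₜ AdjoinRoot.root F)) (derivative F) = _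
    rw [hπα, ← hF', Polynomial.derivative_map, Polynomial.aeval_map_algebraMap]
  have hne : aeval α (derivative g) ≠ 0 :=
    (Algebra.IsSeparable.isSeparable κ α).aeval_derivative_ne_zero (minpoly.aeval κ α)
  have hunit : IsUnit ((1 : S) ⊗ₜ[W.B] d) := of_not_not fun hnu => hne (by
    rw [← hπd]
    haveI := RingHom.ker_isMaximal_of_surjective π hπ
    have : (1 : S) ⊗ₜ[W.B] d ∈ RingHom.ker π := by
      rw [IsLocalRing.eq_maximalIdeal (inferInstance : (RingHom.ker π).IsMaximal)]
      exact hnu
    exact this)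
  have hzero : (1 : S) ⊗ₜ[W.B] Ideal.Quotient.mk (Ideal.span {d}) 1 = 0 := by
    let Q := Algebra.TensorProduct.map (AlgHom.id W.B S) (Ideal.Quotient.mkₐ W.B (Ideal.span {d}))
    have h1 : Q ((1 : S) ⊗ₜ d) = 0 := by
      simp [Q, Ideal.Quotient.eq_zero_iff_mem.2 (Ideal.mem_span_singleton_self d)]
    obtain ⟨u, hu⟩ := hunit
    have h2 : Q 1 = 0 := by rw [← u.inv_mul, map_mul, hu, h1, mul_zero]
    simpa [Q, Algebra.TensorProduct.one_def] using h2
  obtain ⟨h, hh, hkill⟩ := exists_unit_smul_eq_zero (R' := S) _ hzero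
  have hdvd : algebraMap W.B (AdjoinRoot F) h ∈ Ideal.span {d} := by
    refine Ideal.Quotient.eq_zero_iff_mem.1 ?_
    rw [← mul_one (algebraMap W.B (AdjoinRoot F) h), ← Algebra.smul_def]
    exact hkill
  obtain ⟨y, hy⟩ := Ideal.mem_span_singleton'.1 hdvd
  -- the shrunk stage
  have hh' : IsUnit (W.ψ h) := hh
  let W2 := W.away h hh'
  let j : W.B →+* W2.B := (W.toAway h hh').toRingHom
  let F2 : W2.B[X] := F.map j
  have hF2m : F2.Monic := hFm.map j
  letI : Algebra W2.B S := W2.ψ.toRingHom.toAlgebra
  haveI : IsScalarTower V W2.B S := IsScalarTower.of_algebraMap_eq fun v => (W2.ψ.commutes v).symm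
  letI : Algebra W2.B K := ((algebraMap S K).comp (algebraMap W2.B S)).toAlgebra
  haveI : IsScalarTower W2.B S K := IsScalarTower.of_algebraMap_eq fun _ => rfl
  have hF2 : F2.map (algebraMap W2.B κ) = g := by
    rw [← hF', Polynomial.map_map]
    congr 1
    refine RingHom.ext fun w => ?_
    rw [IsScalarTower.algebraMap_eq W2.B S κ, IsScalarTower.algebraMap_eq W.B S κ]
    exact congrArg (algebraMap S κ) (DFunLike.congr_fun (W.ψ_comp_toAway h hh') w)
  obtain ⟨π2, hπ2, -, hker2, hloc2⟩ := local_of_adjoinRoot (V := W2.B) α hα F2 hF2m hF2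
  have hsep : F2.Separable := by
    let m : AdjoinRoot F →+* AdjoinRoot F2 := AdjoinRoot.map j F F2 dvd_rfl
    have h1 := congrArg m hy
    rw [map_mul, AdjoinRoot.algebraMap_eq, AdjoinRoot.map_of] at h1
    have hu : IsUnit (m d) := by
      have : IsUnit (m y * m d) := by rw [h1]; exact (W.isUnit_toAway h hh').map _
      exact isUnit_of_mul_isUnit_right this
    have hmd : m d = AdjoinRoot.mk F2 (derivative F2) := by
      change m (AdjoinRoot.mk F (derivative F)) = _
      simp only [m, AdjoinRoot.map, AdjoinRoot.lift_mk]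
      rw [← Polynomial.eval₂_map, Polynomial.derivative_map, ← AdjoinRoot.algebraMap_eq,
        ← aeval_def, AdjoinRoot.aeval_eq]
    rw [hmd] at hu
    obtain ⟨z, hz⟩ := hu.exists_left_inv
    obtain ⟨z, rfl⟩ := AdjoinRoot.mk_surjective z
    rw [← map_mul, ← map_one (AdjoinRoot.mk F2), AdjoinRoot.mk_eq_mk] at hz
    obtain ⟨c, hc⟩ := hz
    exact ⟨-c, z, by linear_combination hc⟩
  haveI : Module.Free W2.B (AdjoinRoot F2) := hF2m.free_adjoinRoot
  haveI : Nontrivial (AdjoinRoot F2) :=
    (AdjoinRoot.lift (algebraMap W2.B K) α (by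
      haveI : IsScalarTower W2.B κ K := IsScalarTower.of_algebraMap_eq fun w => by
        rw [IsScalarTower.algebraMap_apply W2.B S K, IsScalarTower.algebraMap_apply S κ K,
          ← IsScalarTower.algebraMap_apply W2.B S κ]
      rw [IsScalarTower.algebraMap_eq W2.B κ K, ← Polynomial.eval₂_map, hF2]
      exact minpoly.aeval κ α) : AdjoinRoot F2 →+* K).domain_nontrivial
  exact ⟨W2, AdjoinRoot F2, inferInstance, inferInstance,
    Groth.L11.Az.etale_adjoinRoot hF2m hsep, hF2m.finite_adjoinRoot, inferInstance, hloc2, π2, hπ2, hker2⟩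

end Groth.L24.ClopenIso
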